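import Cfsg.Agent.Lib.SymHall.Struct
import Cfsg.Prelude.Def_HallClasses

/-!
Existence, conjugacy and dominance of Hall subgroups in symmetric and alternating groups.
-/

set_option autoImplicit false
set_option linter.unusedSectionVars false

namespace CfsgLib.SymHall

open Equiv Cfsg

universe u

variable {π : Set ℕ}

section Group

variable {G : Type u} [Group G] [Finite G]

/-- At most one relevant prime: Sylow. -/
theorem sylow_case (h : ∀ r s : ℕ, r.Prime → s.Prime → r ∈ π → s ∈ π → r ∣ Nat.card G → s ∣ Nat.card G → r = s) :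
    IsCPiGroup π G ∧ IsDPiGroup π G := by
  obtain ⟨p, hp, hp1, hp2⟩ : ∃ p : ℕ, p.Prime ∧ (∀ r : ℕ, r.Prime → r ∣ Nat.card G → r ∈ π → r = p) ∧
      (p ∈ π ∨ ¬ p ∣ Nat.card G) := by
    by_cases hex : ∃ p : ℕ, p.Prime ∧ p ∈ π ∧ p ∣ Nat.card G
    · obtain ⟨p, hp, hpπ, hpd⟩ := hex
      exact ⟨p, hp, fun r hr hd hrπ => h r p hr hp hrπ hpπ hd hpd, Or.inl hpπ⟩
    · push Not at hex
      obtain ⟨p, hge, hp⟩ := Nat.exists_infinite_primes (Nat.card G + 1)
      exact ⟨p, hp, fun r hr hd hrπ => (hex r hr hrπ hd).elim, Or.inr fun hd => by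
        have := Nat.le_of_dvd Nat.card_pos hd; omega⟩
  haveI := Fact.mk hp
  have hpi : ∀ H : Subgroup G, IsPiSubgroup π H ↔ IsPGroup p H := fun H => by
    constructor
    · intro hH
      exact IsPGroup.iff_card.mpr ⟨_, Nat.eq_prime_pow_of_unique_prime_dvd Nat.card_pos.ne' fun {d} hd hdH =>
        hp1 d hd (hdH.trans (Subgroup.card_subgroup_dvd_card H)) (hH d hd hdH)⟩
    · intro hH q hq hd
      obtain ⟨k, hk⟩ := IsPGroup.iff_card.mp hH
      have hqp : q = p := (Nat.prime_dvd_prime_iff_eq hq hp).mp (hq.dvd_of_dvd_pow (hk ▸ hd))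
      rcases hp2 with h' | h'
      · exact hqp ▸ h'
      · exact absurd (hd.trans (Subgroup.card_subgroup_dvd_card H)) (hqp ▸ h')
  have hsyl : ∀ P : Sylow p G, IsPiHall π (P : Subgroup G) := fun P =>
    ⟨(hpi _).mpr P.isPGroup', fun q hq hqπ hd => P.not_dvd_index
      (hp1 q hq (hd.trans (Subgroup.index_dvd_card _)) hqπ ▸ hd)⟩
  have hall : ∀ H : Subgroup G, IsPiHall π H → ∃ P : Sylow p G, (P : Subgroup G) = H := fun H hH => by
    have hidx : ¬ p ∣ H.index := fun hd => by
      rcases hp2 with h' | h'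
      exacts [hH.2 p hp h' hd, h' (hd.trans (Subgroup.index_dvd_card _))]
    exact ⟨((hpi H).mp hH.1).toSylow hidx, rfl⟩
  have conj : ∀ P Q : Sylow p G, ∃ g : G, (Q : Subgroup G) = (P : Subgroup G).map (MulAut.conj g).toMonoidHom :=
    fun P Q => by
      obtain ⟨g, rfl⟩ := MulAction.exists_smul_eq G P Q
      exact ⟨g, rfl⟩
  obtain ⟨P₀⟩ : Nonempty (Sylow p G) := inferInstance
  refine ⟨⟨⟨_, hsyl P₀⟩, fun H K hH hK => ?_⟩, fun H K hH hK => ?_⟩
  · obtain ⟨P, rfl⟩ := hall H hH
    obtain ⟨Q, rfl⟩ := hall K hK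
    exact conj P Q
  · have hmax : ∀ H : Subgroup G, Maximal (IsPiSubgroup π) H → ∃ P : Sylow p G, (P : Subgroup G) = H := fun H hH => by
      obtain ⟨P, hP⟩ := ((hpi H).mp hH.1).exists_le_sylow
      exact ⟨P, (hH.eq_of_le ((hpi _).mpr P.isPGroup') hP).symm⟩
    obtain ⟨P, rfl⟩ := hmax H hH
    obtain ⟨Q, rfl⟩ := hmax K hK
    exact conj P Q

theorem eq_top_of_hall (h : ∀ r : ℕ, r.Prime → r ∣ Nat.card G → r ∈ π) {H : Subgroup G} (hH : IsPiHall π H) :
    H = ⊤ := by
  rw [← Subgroup.index_eq_one]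
  by_contra hne
  obtain ⟨p, hp, hd⟩ := Nat.exists_prime_and_dvd hne
  exact hH.2 p hp (h p hp (hd.trans (Subgroup.index_dvd_card H))) hd

/-- All primes: the whole group. -/
theorem all_case (h : ∀ r : ℕ, r.Prime → r ∣ Nat.card G → r ∈ π) : IsCPiGroup π G ∧ IsDPiGroup π G := by
  have htop : IsPiSubgroup π (⊤ : Subgroup G) := fun p hp hd => h p hp (by rwa [Subgroup.card_top] at hd)
  have hmap : (⊤ : Subgroup G) = (⊤ : Subgroup G).map (MulAut.conj (1 : G)).toMonoidHom := by simp
  refine ⟨⟨⟨⊤, htop, fun p hp _ hd => ?_⟩, fun H K hH hK => ?_⟩, fun H K hH hK => ?_⟩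
  · rw [Subgroup.index_top, Nat.dvd_one] at hd; exact hp.one_lt.ne' hd
  · exact ⟨1, by rw [eq_top_of_hall h hH, eq_top_of_hall h hK, ← hmap]⟩
  · exact ⟨1, by rw [hH.eq_of_le htop le_top, hK.eq_of_le htop le_top, ← hmap]⟩

theorem IsPiHall.maximal {H : Subgroup G} (hH : IsPiHall π H) : Maximal (IsPiSubgroup π) H := by
  refine ⟨hH.1, fun K hK hle => (eq_of_relIndex (M := H) (N := ⊤) hle le_top hK fun p hp hpπ => ?_).le⟩
  rw [Subgroup.relIndex_top_right]
  exact hH.2 p hp hpπ

/-- The full Sylow analogue gives existence and absorption. -/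
theorem hall_of_dpi (h : IsDPiGroup π G) :
    ∃ H : Subgroup G, IsPiHall π H ∧ ∀ P : Subgroup G, IsPiSubgroup π P →
      ∃ g : G, P ≤ H.map (MulAut.conj g).toMonoidHom := by
  have hsub : ∀ P : Subgroup G, IsPiSubgroup π P → ∃ K, P ≤ K ∧ Maximal (IsPiSubgroup π) K := fun P hP => by
    obtain ⟨K, hle, hK⟩ := Set.Finite.exists_le_maximal (s := {K : Subgroup G | IsPiSubgroup π K}) (Set.toFinite _) hP
    exact ⟨K, hle, hK⟩
  obtain ⟨H, -, hH⟩ := hsub ⊥ fun p hp hd => by
    rw [Subgroup.card_bot, Nat.dvd_one] at hd; exact absurd hd hp.one_lt.ne'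
  have habs : ∀ P : Subgroup G, IsPiSubgroup π P → ∃ g : G, P ≤ H.map (MulAut.conj g).toMonoidHom := fun P hP => by
    obtain ⟨K, hle, hK⟩ := hsub P hP
    obtain ⟨g, rfl⟩ := h H K hH hK
    exact ⟨g, hle⟩
  refine ⟨H, ⟨hH.1, fun p hp hpπ hd => ?_⟩, habs⟩
  haveI := Fact.mk hp
  obtain ⟨P⟩ : Nonempty (Sylow p G) := inferInstance
  obtain ⟨g, hg⟩ := habs P fun q hq hqd => by
    obtain ⟨k, hk⟩ := IsPGroup.iff_card.mp P.isPGroup'
    exact ((Nat.prime_dvd_prime_iff_eq hq hp).mp (hq.dvd_of_dvd_pow (hk ▸ hqd))) ▸ hpπ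
  have e := Subgroup.index_map_of_bijective (f := (MulAut.conj g).toMonoidHom) (MulAut.conj g).bijective H
  exact P.not_dvd_index (dvd_trans (e.symm ▸ hd) (Subgroup.index_dvd_of_le hg))

end Group

variable {α : Type u} [Fintype α] [DecidableEq α]

theorem card_perm_prime {r : ℕ} (hr : r.Prime) : r ∣ Nat.card (Perm α) ↔ r ≤ Fintype.card α := by
  rw [Nat.card_perm, Nat.card_eq_fintype_card, hr.dvd_factorial]

theorem le_of_dvd_alt {r : ℕ} (hr : r.Prime) (h : r ∣ Nat.card (alternatingGroup α)) : r ≤ Fintype.card α :=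
  (card_perm_prime hr).mp (h.trans (Subgroup.card_subgroup_dvd_card _))

theorem index_alt_dvd_two : (alternatingGroup α).index ∣ 2 := by
  show (Perm.sign (α := α)).ker.index ∣ 2
  rw [Subgroup.index_ker]
  refine (Subgroup.card_subgroup_dvd_card _).trans (dvd_of_eq ?_)
  rw [Nat.card_eq_fintype_card, Fintype.card_units_int]

/-- A Hall subgroup of the symmetric group meets the alternating group in one. -/
theorem altHall_of_hall {H : Subgroup (Perm α)} (hH : IsPiHall π H) : AltHall π (H ⊓ alternatingGroup α) where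
  le := inf_le_right
  pi p hp hd := hH.1 p hp (hd.trans (Subgroup.card_dvd_of_le inf_le_left))
  full p hp hpπ hd := by
    rw [Subgroup.inf_relIndex_right] at hd
    refine hH.2 p hp hpπ (hd.trans ?_)
    rw [← Subgroup.relIndex_top_right H]
    exact relIndex_dvd_of_normalized le_top le_top fun m _ x hx => (alternatingGroup.normal).conj_mem x hx m

theorem altHall_map {M : Subgroup (alternatingGroup α)} (hM : IsPiHall π M) :
    AltHall π (M.map (alternatingGroup α).subtype) where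
  le := Subgroup.map_subtype_le M
  pi p hp hd := hM.1 p hp (by rwa [Subgroup.card_map_of_injective (alternatingGroup α).subtype_injective] at hd)
  full p hp hpπ hd := by
    refine hM.2 p hp hpπ ?_
    have e : (M.map (alternatingGroup α).subtype).subgroupOf (alternatingGroup α) = M :=
      Subgroup.comap_map_eq_self_of_injective (alternatingGroup α).subtype_injective M
    rw [← e]
    exact hd

theorem hall_subgroupOf {H : Subgroup (Perm α)} (hH : AltHall π (H ⊓ alternatingGroup α)) :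
    IsPiHall π (H.subgroupOf (alternatingGroup α)) := by
  have e : (H ⊓ alternatingGroup α).subgroupOf (alternatingGroup α) = H.subgroupOf (alternatingGroup α) :=
    Subgroup.inf_subgroupOf_right H (alternatingGroup α)
  rw [← e]
  refine ⟨fun p hp hd => hH.pi p hp ?_, fun p hp hpπ => hH.full p hp hpπ⟩
  rwa [Nat.card_congr (Subgroup.subgroupOfEquivOfLe hH.le).toEquiv] at hd

/-- The candidates. -/
def Model (π : Set ℕ) (K : Subgroup (Perm α)) : Prop :=
  ((Fintype.card α).Prime ∧ 5 ≤ Fintype.card α ∧ BelowN π (Fintype.card α) ∧ ∃ a, K = keep {a}) ∨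
  (Fintype.card α = 7 ∧ Two3 π (Fintype.card α) ∧ ∃ s : Finset α, s.card = 3 ∧ K = keep s) ∨
  (Fintype.card α = 8 ∧ Two3 π (Fintype.card α) ∧ ∃ s : Finset α, s.card = 4 ∧ K = keepPair s)

/-- The numerical condition. -/
def Cond (π : Set ℕ) (n : ℕ) : Prop :=
  (n.Prime ∧ BelowN π n) ∨ ((n = 7 ∨ n = 8) ∧ Two3 π n)

theorem isPi_of_alt {K : Subgroup (Perm α)} (h2 : 2 ∈ π) (h : IsPi π (alternatingGroup α ⊓ K)) : IsPi π K := by
  intro p hp hd
  rw [← ((alternatingGroup α).subgroupOf K).card_mul_index] at hd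
  rcases hp.dvd_mul.mp hd with h' | h'
  · refine h p hp ?_
    rwa [← Subgroup.inf_subgroupOf_right, Nat.card_congr (Subgroup.subgroupOfEquivOfLe inf_le_right).toEquiv] at h'
  · have h'' := (h'.trans ((alternatingGroup α).relIndex_dvd_index_of_normal K)).trans index_alt_dvd_two
    exact (Nat.prime_dvd_prime_iff_eq hp Nat.prime_two).mp h'' ▸ h2

theorem exists_image_eq {s t : Finset α} (h : s.card = t.card) : ∃ g : Perm α, s.image g = t := by
  let e : {x // x ∈ s} ≃ {x // x ∈ t} := Fintype.equivOfCardEq (by simpa using h)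
  refine ⟨e.extendSubtype, Finset.eq_of_subset_of_card_le (fun y hy => ?_) ?_⟩
  · obtain ⟨x, hx, rfl⟩ := Finset.mem_image.mp hy
    exact e.extendSubtype_mem x hx
  · rw [Finset.card_image_of_injective _ e.extendSubtype.injective, h]

theorem index_keep (s : Finset α) : (keep s).index = (Fintype.card α).choose s.card := by
  open Pointwise in
  have hst : keep s = MulAction.stabilizer (Perm α) s := by
    ext g
    rw [mem_keep_iff_image, MulAction.mem_stabilizer_iff]
    rfl
  rw [hst, MulAction.index_stabilizer, ← Finset.card_univ, ← Finset.card_powersetCard, ← Set.ncard_coe_finset]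
  congr 1
  ext t
  simp only [Finset.mem_coe, Finset.mem_powersetCard, Finset.subset_univ, true_and]
  open Pointwise in
  constructor
  · rintro ⟨g, rfl⟩
    exact Finset.card_smul_finset g s
  · intro ht
    obtain ⟨g, hg⟩ := exists_image_eq ht.symm
    exact ⟨g, hg⟩

theorem index_keepPair (s : Finset α) (hs : s.card = sᶜ.card) (h0 : s.Nonempty) :
    2 * (keepPair s).index = (Fintype.card α).choose s.card := by
  rw [← index_keep, ← Subgroup.relIndex_mul_index (keep_le_keepPair s)]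
  congr 1
  obtain ⟨σ, hσ⟩ := exists_image_eq hs
  have hsw : ∀ x, σ x ∈ s ↔ x ∉ s := fun x => by
    rw [← σ.injective.mem_finset_image (s := s) (a := x), hσ, Finset.mem_compl, not_not]
  refine (Subgroup.index_eq_two_iff.mpr ⟨⟨σ, Or.inr hsw⟩, fun b => ?_⟩).symm
  simp only [Subgroup.mem_subgroupOf, Subgroup.coe_mul]
  rcases b.2 with hb | hb
  · refine Or.inr ⟨hb, fun h => ?_⟩
    obtain ⟨x, hx⟩ := h0
    have h' := (h x).mpr hx
    rw [Perm.mul_apply, hb] at h'
    exact (hsw x).mp h' hx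
  · refine Or.inl ⟨fun x => ?_, fun h => ?_⟩
    · rw [Perm.mul_apply, hb, hsw, not_not]
    · obtain ⟨x, hx⟩ := h0
      exact (hb x).mp ((h x).mpr hx) hx

theorem BelowN.two_mem {n : ℕ} (h : BelowN π n) (h5 : 5 ≤ n) : 2 ∈ π :=
  (h 2 Nat.prime_two (by omega)).mpr (by omega)

theorem Model.two_mem {K : Subgroup (Perm α)} (hK : Model π K) : 2 ∈ π := by
  rcases hK with ⟨-, h5, h, -⟩ | ⟨-, h, -⟩ | ⟨-, h, -⟩
  exacts [h.two_mem h5, h.1, h.1]

theorem Model.hall {K : Subgroup (Perm α)} (hK : Model π K) : IsPiHall π K := by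
  rcases hK with ⟨hp, h5, hb, a, rfl⟩ | ⟨h7, h23, s, hs, rfl⟩ | ⟨h8, h23, s, hs, rfl⟩
  · refine ⟨isPi_of_alt (hb.two_mem h5) (isPi_point a fun r hr hlt => (hb r hr hlt.le).mpr hlt), fun p hpp hpπ hd => ?_⟩
    rw [index_keep, Finset.card_singleton, Nat.choose_one_right] at hd
    have := (Nat.prime_dvd_prime_iff_eq hpp hp).mp hd
    exact (lt_irrefl _) (this ▸ (hb p hpp this.le).mp hpπ)
  · refine ⟨fun p hp hd => isPi_keep s (by omega) (by rw [Finset.card_compl]; omega) ⟨h23.1, h23.2.1⟩ p hp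
      (hd.trans (Subgroup.card_dvd_of_le (keep_le_keepPair s))), fun p hp hpπ hd => ?_⟩
    rw [index_keep, h7, hs, show Nat.choose 7 3 = 5 * 7 from rfl] at hd
    rcases hp.dvd_mul.mp hd with h | h <;> have := (Nat.prime_dvd_prime_iff_eq hp (by norm_num)).mp h <;>
      exact h23.2.2 p hp (by omega) (by omega) hpπ
  · have hsc : s.card = sᶜ.card := by rw [Finset.card_compl]; omega
    refine ⟨isPi_keep s (by omega) (by omega) ⟨h23.1, h23.2.1⟩, fun p hp hpπ hd => ?_⟩
    have e := index_keepPair s hsc (Finset.card_pos.mp (by omega))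
    rw [h8, hs, show Nat.choose 8 4 = 2 * (5 * 7) from rfl] at e
    rw [show (keepPair s).index = 5 * 7 by omega] at hd
    rcases hp.dvd_mul.mp hd with h | h <;> have := (Nat.prime_dvd_prime_iff_eq hp (by norm_num)).mp h <;>
      exact h23.2.2 p hp (by omega) (by omega) hpπ

theorem Model.cond {K : Subgroup (Perm α)} (hK : Model π K) : Cond π (Fintype.card α) := by
  rcases hK with ⟨hp, -, hb, -⟩ | ⟨h7, h23, -⟩ | ⟨h8, h23, -⟩
  exacts [Or.inl ⟨hp, hb⟩, Or.inr ⟨Or.inl h7, h23⟩, Or.inr ⟨Or.inr h8, h23⟩]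

theorem exists_model (h5 : 5 ≤ Fintype.card α) (h : Cond π (Fintype.card α)) :
    ∃ K : Subgroup (Perm α), Model π K := by
  rcases h with ⟨hp, hb⟩ | ⟨h7 | h8, h23⟩
  · obtain ⟨a⟩ : Nonempty α := Fintype.card_pos_iff.mp (by omega)
    exact ⟨_, Or.inl ⟨hp, h5, hb, a, rfl⟩⟩
  · obtain ⟨s, -, hs⟩ := Finset.exists_subset_card_eq (s := (Finset.univ : Finset α)) (n := 3) (by rw [Finset.card_univ]; omega)
    exact ⟨_, Or.inr (Or.inl ⟨h7, h23, s, hs, rfl⟩)⟩
  · obtain ⟨s, -, hs⟩ := Finset.exists_subset_card_eq (s := (Finset.univ : Finset α)) (n := 4) (by rw [Finset.card_univ]; omega)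
    exact ⟨_, Or.inr (Or.inr ⟨h8, h23, s, hs, rfl⟩)⟩

/-- Every Hall subgroup of the alternating group comes from a candidate. -/
theorem AltHall.exists_model {M : Subgroup (Perm α)} (hM : AltHall π M) (hmix : Mixed π (Fintype.card α)) :
    ∃ K : Subgroup (Perm α), Model π K ∧ M = alternatingGroup α ⊓ K := by
  suffices ∃ K : Subgroup (Perm α), Model π K ∧ M ≤ K by
    obtain ⟨K, hK, hle⟩ := this
    exact ⟨K, hK, (eq_of_relIndex (le_inf hM.le hle) inf_le_left
      (fun p hp hd => hK.hall.1 p hp (hd.trans (Subgroup.card_dvd_of_le inf_le_right))) hM.full).symm⟩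
  rcases classify _ rfl hM hmix with ⟨hp, hb, a, ha⟩ | ⟨h7, h23, s, hs, hle⟩ | ⟨h8, h23, s, hs, hle⟩
  · exact ⟨_, Or.inl ⟨hp, hmix.five_le, hb, a, rfl⟩, ha⟩
  · exact ⟨_, Or.inr (Or.inl ⟨h7, h23, s, hs, rfl⟩), hle⟩
  · exact ⟨_, Or.inr (Or.inr ⟨h8, h23, s, hs, rfl⟩), hle⟩

theorem mem_map_conj {K : Subgroup (Perm α)} {g u : Perm α} :
    u ∈ K.map (MulAut.conj g).toMonoidHom ↔ g⁻¹ * u * g ∈ K := by
  rw [Subgroup.mem_map_equiv, MulAut.conj_symm_apply]

theorem keep_map (s : Finset α) (g : Perm α) : (keep s).map (MulAut.conj g).toMonoidHom = keep (s.image g) := by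
  ext u; rw [mem_map_conj, mem_keep_image]

theorem keepPair_map (s : Finset α) (g : Perm α) :
    (keepPair s).map (MulAut.conj g).toMonoidHom = keepPair (s.image g) := by
  ext u
  rw [mem_map_conj]
  refine or_congr mem_keep_image ⟨fun h y => ?_, fun h x => ?_⟩
  · have h' := h (g⁻¹ y)
    simp only [Perm.mul_apply, Perm.inv_def, Equiv.apply_symm_apply] at h'
    rw [mem_image_perm, mem_image_perm]
    exact h'
  · have h' := h (g x)
    rw [mem_image_perm, mem_image_perm] at h'
    simp only [Perm.inv_def, Equiv.symm_apply_apply] at h'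
    exact h'

theorem Model.map {K : Subgroup (Perm α)} (hK : Model π K) (g : Perm α) :
    Model π (K.map (MulAut.conj g).toMonoidHom) := by
  rcases hK with ⟨hp, h5, hb, a, rfl⟩ | ⟨h7, h23, s, hs, rfl⟩ | ⟨h8, h23, s, hs, rfl⟩
  · exact Or.inl ⟨hp, h5, hb, g a, by rw [keep_map, Finset.image_singleton]⟩
  · exact Or.inr (Or.inl ⟨h7, h23, _, by rw [Finset.card_image_of_injective _ g.injective, hs], keep_map s g⟩)
  · exact Or.inr (Or.inr ⟨h8, h23, _, by rw [Finset.card_image_of_injective _ g.injective, hs], keepPair_map s g⟩)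

theorem not_mem_pi_five {n : ℕ} (h : BelowN π n) (hn : n = 7 ∨ n = 8) : 5 ∈ π :=
  (h 5 Nat.prime_five (by omega)).mpr (by omega)

theorem Model.conj {K K' : Subgroup (Perm α)} (hK : Model π K) (hK' : Model π K') :
    ∃ g : Perm α, g ∈ alternatingGroup α ∧ K' = K.map (MulAut.conj g).toMonoidHom := by
  obtain ⟨g, hg⟩ : ∃ g : Perm α, K' = K.map (MulAut.conj g).toMonoidHom := by
    rcases hK with ⟨hp, h5, hb, a, rfl⟩ | ⟨h7, h23, s, hs, rfl⟩ | ⟨h8, h23, s, hs, rfl⟩ <;>
      rcases hK' with ⟨hp', h5', hb', a', rfl⟩ | ⟨h7', h23', s', hs', rfl⟩ | ⟨h8', h23', s', hs', rfl⟩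
    · exact ⟨swap a a', by rw [keep_map, Finset.image_singleton, swap_apply_left]⟩
    · exact absurd (not_mem_pi_five hb (Or.inl h7')) (h23'.2.2 5 Nat.prime_five (by omega) le_rfl)
    · exact absurd hp (by rw [h8']; norm_num)
    · exact absurd (not_mem_pi_five hb' (Or.inl h7)) (h23.2.2 5 Nat.prime_five (by omega) le_rfl)
    · obtain ⟨g, hg⟩ := exists_image_eq (hs.trans hs'.symm)
      exact ⟨g, by rw [keep_map, hg]⟩
    · omega
    · exact absurd hp' (by rw [h8]; norm_num)
    · omega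
    · obtain ⟨g, hg⟩ := exists_image_eq (hs.trans hs'.symm)
      exact ⟨g, by rw [keepPair_map, hg]⟩
  by_cases hga : g ∈ alternatingGroup α
  · exact ⟨g, hga, hg⟩
  obtain ⟨k, hk, hka⟩ : ∃ k ∈ K, k ∉ alternatingGroup α := by
    by_contra hc
    push Not at hc
    refine hK.hall.2 2 Nat.prime_two hK.two_mem (dvd_trans ?_ (Subgroup.index_dvd_of_le (fun k hk => hc k hk : K ≤ alternatingGroup α)))
    have h5 : 5 ≤ Fintype.card α := by rcases hK with ⟨-, h, -⟩ | ⟨h, -⟩ | ⟨h, -⟩ <;> omega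
    haveI : Nontrivial α := Fintype.one_lt_card_iff_nontrivial.mp (by omega)
    rw [alternatingGroup.index_eq_two]
  refine ⟨g * k, ?_, ?_⟩
  · rw [Perm.mem_alternatingGroup] at hga hka ⊢
    rw [map_mul, (Int.units_eq_one_or _).resolve_left hga, (Int.units_eq_one_or _).resolve_left hka]
    rfl
  · rw [hg]
    ext u
    rw [mem_map_conj, mem_map_conj]
    have e : (g * k)⁻¹ * u * (g * k) = k⁻¹ * (g⁻¹ * u * g) * k := by group
    rw [e]
    exact ⟨fun h => mul_mem (mul_mem (inv_mem hk) h) hk, fun h => by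
      have := mul_mem (mul_mem hk h) (inv_mem hk)
      simpa [mul_assoc] using this⟩

theorem eq_of_keep {s t : Finset α} (h : alternatingGroup α ⊓ keep s ≤ keep t) (hcard : t.card = s.card)
    (h3 : 3 ≤ sᶜ.card) (hlt : s.card < sᶜ.card) : t = s := by
  refine Finset.eq_of_subset_of_card_le (fun z hz => ?_) hcard.ge
  by_contra hzs
  have := Finset.card_le_card (subset_of_tri h3 (fun p q w hp hq hw hpq hqw _ => h ⟨tri_mem hpq hqw,
    keep_of_fix_mem fun x hx => tri_apply_of_ne (fun e => Finset.mem_compl.mp hp (e ▸ hx))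
      (fun e => Finset.mem_compl.mp hq (e ▸ hx)) (fun e => Finset.mem_compl.mp hw (e ▸ hx))⟩)
    (Finset.mem_compl.mpr hzs) hz)
  omega

theorem keepPair_compl (s : Finset α) : keepPair sᶜ = keepPair s := by
  ext g
  refine or_congr (forall_congr' fun x => ?_) (forall_congr' fun x => ?_)
  · simpa using not_iff_not
  · simp only [Finset.mem_compl, not_not]
    tauto

theorem eq_of_keepPair {s t : Finset α} (h : alternatingGroup α ⊓ keepPair s ≤ keepPair t) (ht : t.card = 4)
    (hs : s.card = 4) (h8 : Fintype.card α = 8) : keepPair t = keepPair s := by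
  have htri : ∀ r : Finset α, 3 ≤ r.card → (r = s ∨ r = sᶜ) → ∀ z ∈ r, z ∈ t → r ⊆ t := by
    intro r hr hrs z hz hzt
    refine subset_of_tri hr (fun p q w hp hq hw hpq hqw _ => ?_) hz hzt
    have hfix : ∀ x, x ∉ r → tri p q w x = x := fun x hx =>
      tri_apply_of_ne (fun e => hx (e ▸ hp)) (fun e => hx (e ▸ hq)) (fun e => hx (e ▸ hw))
    have hks : tri p q w ∈ keep s := by
      rcases hrs with rfl | rfl
      · exact keep_of_fix_not_mem hfix
      · exact keep_of_fix_mem fun x hx => hfix x (by simpa using hx)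
    rcases h ⟨tri_mem hpq hqw, keep_le_keepPair s hks⟩ with hk | hk
    · exact hk
    · obtain ⟨x, hx⟩ : rᶜ.Nonempty := Finset.card_pos.mp (by
        rcases hrs with rfl | rfl <;> simp only [compl_compl, Finset.card_compl] <;> omega)
      have := hk x
      rw [hfix x (Finset.mem_compl.mp hx)] at this
      exact (iff_not_self this).elim
  have hsc : sᶜ.card = 4 := by rw [Finset.card_compl]; omega
  obtain ⟨z, hz⟩ : t.Nonempty := Finset.card_pos.mp (by omega)
  by_cases hzs : z ∈ s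
  · rw [Finset.eq_of_subset_of_card_le (htri s (by omega) (Or.inl rfl) z hzs hz) (by omega)]
  · rw [← Finset.eq_of_subset_of_card_le (htri sᶜ (by omega) (Or.inr rfl) z (Finset.mem_compl.mpr hzs) hz) (by omega),
      keepPair_compl]

theorem Model.eq_of_inf_le {K : Subgroup (Perm α)} (hK : Model π K) {h : Perm α}
    (hle : alternatingGroup α ⊓ K ≤ K.map (MulAut.conj h).toMonoidHom) : h ∈ K := by
  rcases hK with ⟨hp, h5, hb, a, rfl⟩ | ⟨h7, h23, s, hs, rfl⟩ | ⟨h8, h23, s, hs, rfl⟩
  · rw [keep_map] at hle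
    exact mem_keep_iff_image.mpr (eq_of_keep hle (by rw [Finset.card_image_of_injective _ h.injective])
      (by rw [Finset.card_compl, Finset.card_singleton]; omega) (by rw [Finset.card_compl, Finset.card_singleton]; omega))
  · rw [keep_map] at hle
    exact mem_keep_iff_image.mpr (eq_of_keep hle (by rw [Finset.card_image_of_injective _ h.injective])
      (by rw [Finset.card_compl]; omega) (by rw [Finset.card_compl]; omega))
  · rw [keepPair_map] at hle
    have e := eq_of_keepPair hle (by rw [Finset.card_image_of_injective _ h.injective, hs]) hs h8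
    obtain ⟨x, hx⟩ : s.Nonempty := Finset.card_pos.mp (by omega)
    have himg : s.image h = s ∨ s.image h = sᶜ := by
      have hcc : (s.image h).card = 4 := by rw [Finset.card_image_of_injective _ h.injective, hs]
      by_cases hsub : s.image h ⊆ s
      · exact Or.inl (Finset.eq_of_subset_of_card_le hsub (by omega))
      right
      refine Finset.eq_of_subset_of_card_le (fun y hy => Finset.mem_compl.mpr fun hys => ?_)
        (by rw [Finset.card_compl]; omega)
      obtain ⟨z, hz, hzs⟩ := Finset.not_subset.mp hsub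
      have hmem : swap y z ∈ keepPair (s.image h) := Or.inl fun w => by
        rcases eq_or_ne w y with rfl | hwy
        · simp [hy, hz]
        rcases eq_or_ne w z with rfl | hwz
        · simp [hy, hz]
        · rw [swap_apply_of_ne_of_ne hwy hwz]
      rw [e] at hmem
      obtain ⟨w, hw, hwy, hwz⟩ := exists_third (s := s) (by omega) y z
      rcases hmem with hk | hk
      · have := hk y
        rw [swap_apply_left] at this
        exact hzs (this.mpr hys)
      · have := hk w
        rw [swap_apply_of_ne_of_ne hwy hwz] at this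
        exact iff_not_self this
    rcases himg with e' | e'
    · exact Or.inl (mem_keep_iff_image.mpr e')
    · exact Or.inr fun y => by
        rw [← h.injective.mem_finset_image (s := s) (a := y), e', Finset.mem_compl, not_not]

/-- Hall subgroups of the symmetric group are the candidates. -/
theorem hall_eq_model {H : Subgroup (Perm α)} (hH : IsPiHall π H) (hmix : Mixed π (Fintype.card α)) : Model π H := by
  obtain ⟨K, hK, e⟩ := (altHall_of_hall hH).exists_model hmix
  suffices hle : H ≤ K by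
    rwa [← eq_of_relIndex (M := H) (N := ⊤) hle le_top hK.hall.1 fun p hp hpπ => by
      rw [Subgroup.relIndex_top_right]; exact hH.2 p hp hpπ]
  intro h hh
  refine hK.eq_of_inf_le fun u hu => ?_
  rw [mem_map_conj]
  rw [← e] at hu
  obtain ⟨huH, huA⟩ := Subgroup.mem_inf.mp hu
  have h2 : h⁻¹ * u * h ∈ H ⊓ alternatingGroup α :=
    Subgroup.mem_inf.mpr ⟨mul_mem (mul_mem (inv_mem hh) huH) hh, conj_mem_alt huA⟩
  rw [e] at h2
  exact (Subgroup.mem_inf.mp h2).2

theorem map_conj_alt (M : Subgroup (alternatingGroup α)) (g : alternatingGroup α) :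
    (M.map (MulAut.conj g).toMonoidHom).map (alternatingGroup α).subtype =
      (M.map (alternatingGroup α).subtype).map (MulAut.conj (g : Perm α)).toMonoidHom := by
  rw [Subgroup.map_map, Subgroup.map_map]
  rfl

theorem inf_map_conj (K : Subgroup (Perm α)) (g : Perm α) :
    (alternatingGroup α ⊓ K).map (MulAut.conj g).toMonoidHom =
      alternatingGroup α ⊓ K.map (MulAut.conj g).toMonoidHom := by
  ext u
  simp only [mem_map_conj, Subgroup.mem_inf]
  refine and_congr_left fun _ => ⟨fun h => ?_, conj_mem_alt⟩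
  have := conj_mem_alt (g := g⁻¹) h
  simpa [mul_assoc] using this

/-- The trichotomy by the primes up to the degree. -/
theorem cases_pi (n : ℕ) (π : Set ℕ) :
    (∀ r s : ℕ, r.Prime → s.Prime → r ∈ π → s ∈ π → r ≤ n → s ≤ n → r = s) ∨
      (∀ r : ℕ, r.Prime → r ≤ n → r ∈ π) ∨ Mixed π n := by
  by_cases h1 : ∀ r : ℕ, r.Prime → r ≤ n → r ∈ π
  · exact Or.inr (Or.inl h1)
  by_cases h2 : ∀ r s : ℕ, r.Prime → s.Prime → r ∈ π → s ∈ π → r ≤ n → s ≤ n → r = s
  · exact Or.inl h2
  push Not at h1 h2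
  obtain ⟨r, s, hr, hs, hrπ, hsπ, hrn, hsn, hne⟩ := h2
  exact Or.inr (Or.inr ⟨⟨r, s, hr, hs, hne, hrπ, hsπ, hrn, hsn⟩, h1⟩)

/-- Existence in the mixed case. -/
theorem epi_iff (hmix : Mixed π (Fintype.card α)) :
    (IsEPiGroup π (Perm α) ↔ Cond π (Fintype.card α)) ∧
      (IsEPiGroup π (alternatingGroup α) ↔ Cond π (Fintype.card α)) := by
  refine ⟨⟨fun ⟨H, hH⟩ => (hall_eq_model hH hmix).cond, fun h => ?_⟩, ⟨fun ⟨M, hM⟩ => ?_, fun h => ?_⟩⟩
  · obtain ⟨K, hK⟩ := exists_model hmix.five_le h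
    exact ⟨K, hK.hall⟩
  · obtain ⟨K, hK, -⟩ := (altHall_map hM).exists_model hmix
    exact hK.cond
  · obtain ⟨K, hK⟩ := exists_model hmix.five_le h
    exact ⟨_, hall_subgroupOf (altHall_of_hall hK.hall)⟩

/-- Conjugacy in the mixed case. -/
theorem cpi_of_epi (hmix : Mixed π (Fintype.card α)) :
    (IsEPiGroup π (Perm α) → IsCPiGroup π (Perm α)) ∧
      (IsEPiGroup π (alternatingGroup α) → IsCPiGroup π (alternatingGroup α)) := by
  refine ⟨fun h => ⟨h, fun H H' hH hH' => ?_⟩, fun h => ⟨h, fun M M' hM hM' => ?_⟩⟩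
  · obtain ⟨g, -, e⟩ := (hall_eq_model hH hmix).conj (hall_eq_model hH' hmix)
    exact ⟨g, e⟩
  · obtain ⟨K, hK, e⟩ := (altHall_map hM).exists_model hmix
    obtain ⟨K', hK', e'⟩ := (altHall_map hM').exists_model hmix
    obtain ⟨g, hg, rfl⟩ := hK.conj hK'
    refine ⟨⟨g, hg⟩, Subgroup.map_injective (alternatingGroup α).subtype_injective ?_⟩
    rw [map_conj_alt, e', e, inf_map_conj]

end CfsgLib.SymHall
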