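import Mathlib

/-!
Hall subgroups of alternating groups: the restriction to a subset and the stabilisers of sets.
-/

set_option autoImplicit false
set_option linter.unusedSectionVars false

namespace CfsgLib.SymHall

open Equiv

universe u

section Group

variable {G : Type u} [Group G] [Finite G] {π : Set ℕ}

/-- A π-subgroup over a relative Hall subgroup is that subgroup. -/
theorem eq_of_relIndex {M Q N : Subgroup G} (h1 : M ≤ Q) (h2 : Q ≤ N)
    (hQ : ∀ p : ℕ, p.Prime → p ∣ Nat.card Q → p ∈ π)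
    (hf : ∀ p : ℕ, p.Prime → p ∈ π → ¬ p ∣ M.relIndex N) : Q = M := by
  refine le_antisymm (Subgroup.relIndex_eq_one.mp ?_) h1
  by_contra hne
  obtain ⟨p, hp, hpd⟩ := Nat.exists_prime_and_dvd hne
  exact hf p hp (hQ p hp (hpd.trans (M.relIndex_dvd_card Q)))
    (hpd.trans (Dvd.intro _ (Subgroup.relIndex_mul_relIndex M Q N h1 h2)))

/-- The index in a normalised subgroup. -/
theorem relIndex_dvd_of_normalized {M N K : Subgroup G} (hM : M ≤ K) (hN : N ≤ K)
    (hn : ∀ m ∈ M, ∀ x ∈ N, m * x * m⁻¹ ∈ N) : M.relIndex N ∣ M.relIndex K := by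
  set T := M ⊔ N
  have hT : T ≤ Subgroup.normalizer (N : Set G) := by
    refine sup_le (fun m hm => ?_) Subgroup.le_normalizer
    refine Subgroup.mem_normalizer_iff.mpr fun x => ⟨fun hx => hn m hm x hx, fun hx => ?_⟩
    have := hn m⁻¹ (inv_mem hm) _ hx
    simpa [mul_assoc] using this
  haveI : (N.subgroupOf T).Normal := Subgroup.normal_subgroupOf_of_le_normalizer hT
  have h1 : N.relIndex T = N.relIndex M := by
    have h := Subgroup.relIndex_sup_right (H := M.subgroupOf T) (K := N.subgroupOf T)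
    rw [← Subgroup.subgroupOf_sup le_sup_left le_sup_right, Subgroup.relIndex_subgroupOf le_rfl,
      Subgroup.relIndex_subgroupOf le_sup_left] at h
    exact h
  have h2 : M.relIndex N = M.relIndex T := by
    have a := Subgroup.relIndex_mul_relIndex (M ⊓ N) M T inf_le_left le_sup_left
    have b := Subgroup.relIndex_mul_relIndex (M ⊓ N) N T inf_le_right le_sup_right
    rw [Subgroup.inf_relIndex_right] at b
    rw [inf_comm, Subgroup.inf_relIndex_right, inf_comm] at a
    rw [← a, h1, mul_comm] at b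
    exact Nat.eq_of_mul_eq_mul_left (Nat.pos_of_dvd_of_pos (N.relIndex_dvd_card M) Nat.card_pos) b
  rw [h2]
  exact Dvd.intro _ (Subgroup.relIndex_mul_relIndex M T K le_sup_left (sup_le hM hN))

/-- An element of `p`-power order is conjugate into a subgroup of index prime to `p`. -/
theorem exists_conj_mem {M N : Subgroup G} (hMN : M ≤ N) {p : ℕ} [Fact p.Prime] (hp : ¬ p ∣ M.relIndex N) {x : G}
    (hx : x ∈ N) {k : ℕ} (ho : orderOf x = p ^ k) : ∃ g ∈ N, g * x * g⁻¹ ∈ M := by
  obtain ⟨P⟩ : Nonempty (Sylow p (M.subgroupOf N)) := inferInstance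
  have hP : IsPGroup p ((P : Subgroup (M.subgroupOf N)).map (M.subgroupOf N).subtype) := P.2.map _
  have hidx : ¬ p ∣ ((P : Subgroup (M.subgroupOf N)).map (M.subgroupOf N).subtype).index := by
    rw [Subgroup.index_map_subtype]
    exact (Fact.out : p.Prime).not_dvd_mul P.not_dvd_index hp
  have hx' : IsPGroup p (Subgroup.zpowers (⟨x, hx⟩ : N)) := IsPGroup.iff_card.mpr ⟨k, by
    rw [Nat.card_zpowers, ← Subgroup.orderOf_coe, ho]⟩
  obtain ⟨S, hS⟩ := hx'.exists_le_sylow
  obtain ⟨g, hg⟩ := MulAction.exists_smul_eq N S (hP.toSylow hidx)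
  refine ⟨g, g.2, ?_⟩
  have h1 : g * ⟨x, hx⟩ * g⁻¹ ∈ ((g • S : Sylow p N) : Subgroup N) := ⟨⟨x, hx⟩, hS (Subgroup.mem_zpowers _), by simp⟩
  rw [hg] at h1
  obtain ⟨y, -, hy⟩ := h1
  have := congrArg Subtype.val hy
  have h2 : (g : G) * x * (g : G)⁻¹ = y.1.1 := this.symm
  rw [h2]
  exact y.2

end Group

variable {α : Type u} [Fintype α] [DecidableEq α] {π : Set ℕ}

/-- All prime divisors of the order lie in the set. -/
def IsPi (π : Set ℕ) (M : Subgroup (Perm α)) : Prop := ∀ p : ℕ, p.Prime → p ∣ Nat.card M → p ∈ π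

/-- A Hall subgroup of the alternating group. -/
structure AltHall (π : Set ℕ) (M : Subgroup (Perm α)) : Prop where
  le : M ≤ alternatingGroup α
  pi : IsPi π M
  full : ∀ p : ℕ, p.Prime → p ∈ π → ¬ p ∣ M.relIndex (alternatingGroup α)

/-- At least two primes up to `n` inside and one outside. -/
def Mixed (π : Set ℕ) (n : ℕ) : Prop :=
  (∃ r s : ℕ, r.Prime ∧ s.Prime ∧ r ≠ s ∧ r ∈ π ∧ s ∈ π ∧ r ≤ n ∧ s ≤ n) ∧ ∃ r : ℕ, r.Prime ∧ r ≤ n ∧ r ∉ π

theorem Mixed.five_le {n : ℕ} (h : Mixed π n) : 5 ≤ n := by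
  obtain ⟨⟨r, s, hr, hs, hrs, hrπ, hsπ, hrn, hsn⟩, t, ht, htn, htπ⟩ := h
  by_contra hn
  have key : ∀ k : ℕ, k.Prime → k ≤ n → k = 2 ∨ k = 3 := fun k hk hkn => by
    have := hk.two_le
    have : k ≤ 4 := by omega
    interval_cases k <;> first | omega | norm_num at *
  rcases key r hr hrn with rfl | rfl <;> rcases key s hs hsn with rfl | rfl <;>
    rcases key t ht htn with rfl | rfl <;> contradiction

/-- The even permutations moving only points of a set. -/
def altOn (s : Finset α) : Subgroup (Perm α) := (alternatingGroup {x // x ∈ s}).map Perm.ofSubtype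

theorem mem_altOn {s : Finset α} {g : Perm α} :
    g ∈ altOn s ↔ g ∈ alternatingGroup α ∧ ∀ x, x ∉ s → g x = x := by
  constructor
  · rintro ⟨f, hf, rfl⟩
    exact ⟨by rw [Perm.mem_alternatingGroup, Perm.sign_ofSubtype]; exact hf,
      fun x hx => Perm.ofSubtype_apply_of_not_mem f hx⟩
  · rintro ⟨hg, hfix⟩
    have hs : ∀ x, g x ∈ s ↔ x ∈ s := fun x => by
      by_cases hx : x ∈ s
      · refine iff_of_true ?_ hx
        by_contra h
        exact h ((g.injective (hfix _ h)).symm ▸ hx)
      · rw [hfix x hx]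
    have e := Perm.ofSubtype_subtypePerm (f := g) hs fun x hx => by
      by_contra h; exact hx (hfix x h)
    refine ⟨g.subtypePerm hs, ?_, e⟩
    show Perm.sign (g.subtypePerm hs) = 1
    rw [← Perm.sign_ofSubtype, e]
    exact hg

/-- The trace of a subgroup on a subset. -/
theorem AltHall.restrict {M : Subgroup (Perm α)} (hM : AltHall π M) (s : Finset α)
    (hf : ∀ p : ℕ, p.Prime → p ∈ π → ¬ p ∣ M.relIndex (altOn s)) :
    AltHall π (M.comap (Perm.ofSubtype : Perm {x // x ∈ s} →* Perm α)) where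
  le g hg := by
    rw [Perm.mem_alternatingGroup, ← Perm.sign_ofSubtype]
    exact hM.le hg
  pi p hp hd := hM.pi p hp (hd.trans ((dvd_of_eq (Nat.card_congr
    (Subgroup.equivMapOfInjective _ _ Perm.ofSubtype_injective).toEquiv)).trans
      (Subgroup.card_dvd_of_le (Subgroup.map_comap_le _ _))))
  full p hp hpπ := by
    rw [Subgroup.relIndex_comap]
    exact hf p hp hpπ

/-- The setwise stabiliser. -/
def keep (s : Finset α) : Subgroup (Perm α) where
  carrier := {g | ∀ x, g x ∈ s ↔ x ∈ s}
  mul_mem' {g h} hg hh x := (hg (h x)).trans (hh x)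
  one_mem' x := Iff.rfl
  inv_mem' {g} hg x := by
    have := hg (g⁻¹ x)
    simp only [Perm.inv_def, Equiv.apply_symm_apply] at this ⊢
    exact this.symm

theorem mem_keep {s : Finset α} {g : Perm α} : g ∈ keep s ↔ ∀ x, g x ∈ s ↔ x ∈ s := Iff.rfl

theorem mem_keep_iff_image {s : Finset α} {g : Perm α} : g ∈ keep s ↔ s.image g = s := by
  rw [mem_keep]
  constructor
  · intro h
    refine Finset.eq_of_subset_of_card_le (fun y hy => ?_) (le_of_eq (Finset.card_image_of_injective _ g.injective).symm)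
    obtain ⟨x, hx, rfl⟩ := Finset.mem_image.mp hy
    exact (h x).mpr hx
  · intro h x
    conv_lhs => rw [← h]
    exact g.injective.mem_finset_image

/-- The stabiliser of a bipartition. -/
def keepPair (s : Finset α) : Subgroup (Perm α) where
  carrier := {g | (∀ x, g x ∈ s ↔ x ∈ s) ∨ ∀ x, g x ∈ s ↔ x ∉ s}
  mul_mem' {g h} hg hh := by
    rcases hg with hg | hg <;> rcases hh with hh | hh
    · exact Or.inl fun x => (hg (h x)).trans (hh x)
    · exact Or.inr fun x => (hg (h x)).trans (hh x)
    · exact Or.inr fun x => (hg (h x)).trans (not_congr (hh x))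
    · exact Or.inl fun x => (hg (h x)).trans ((not_congr (hh x)).trans not_not)
  one_mem' := Or.inl fun x => Iff.rfl
  inv_mem' {g} hg := by
    rcases hg with hg | hg
    · exact Or.inl ((keep s).inv_mem hg)
    · refine Or.inr fun x => ?_
      have := hg (g⁻¹ x)
      simp only [Perm.inv_def, Equiv.apply_symm_apply] at this ⊢
      rw [this, not_not]

theorem normalizes_altOn {s : Finset α} {m g : Perm α} (hm : m ∈ keep s) (hg : g ∈ altOn s) :
    m * g * m⁻¹ ∈ altOn s := by
  rw [mem_altOn] at hg ⊢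
  refine ⟨(alternatingGroup.normal).conj_mem _ hg.1 m, fun x hx => ?_⟩
  have h1 : m⁻¹ x ∉ s := fun h => hx (by simpa using (hm (m⁻¹ x)).mpr h)
  show m (g (m⁻¹ x)) = x
  rw [hg.2 _ h1, Perm.inv_def, Equiv.apply_symm_apply]

/-- The trace on an invariant subset. -/
theorem AltHall.restrict_invariant {M : Subgroup (Perm α)} (hM : AltHall π M) (s : Finset α) (hs : M ≤ keep s) :
    AltHall π (M.comap (Perm.ofSubtype : Perm {x // x ∈ s} →* Perm α)) :=
  hM.restrict s fun p hp hpπ hd => hM.full p hp hpπ (hd.trans (relIndex_dvd_of_normalized hM.le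
    (fun g hg => (mem_altOn.mp hg).1) fun m hm _ hx => normalizes_altOn (hs hm) hx))

/-- Elements of prime order in a stabiliser. -/
theorem prime_le_of_moved {p : ℕ} (hp : p.Prime) {g : Perm α} (hg : orderOf g = p) {s : Finset α}
    (hs : g ∈ keep s) {x : α} (hx : x ∈ s) (hmv : g x ≠ x) : p ≤ s.card := by
  haveI := Fact.mk hp
  have hs' : ∀ y, g y ∈ s ↔ y ∈ s := hs
  have h1 : (g.subtypePerm hs') ^ p = 1 := by
    rw [Perm.subtypePerm_pow]
    ext y
    rw [Perm.subtypePerm_apply]
    show (g ^ p) y.1 = y.1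
    rw [← hg, pow_orderOf_eq_one]
    rfl
  have h2 : g.subtypePerm hs' ≠ 1 := fun e => hmv (congrArg Subtype.val (DFunLike.congr_fun e (⟨x, hx⟩ : {y // y ∈ s})))
  have h3 : orderOf (g.subtypePerm hs') ∣ s.card.factorial := by
    refine (orderOf_dvd_natCard _).trans (dvd_of_eq ?_)
    rw [Nat.card_perm, Nat.card_eq_fintype_card, Fintype.card_coe]
  rw [orderOf_eq_prime h1 h2] at h3
  exact hp.dvd_factorial.mp h3

theorem exists_moved {p : ℕ} (hp : p.Prime) {P : Subgroup (Perm α)} (hd : p ∣ Nat.card P) :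
    ∃ g ∈ P, orderOf g = p ∧ ∃ x, g x ≠ x := by
  haveI := Fact.mk hp
  obtain ⟨g, hg⟩ := exists_prime_orderOf_dvd_card' p hd
  refine ⟨g.1, g.2, (Subgroup.orderOf_coe g).trans hg, ?_⟩
  by_contra hc
  push Not at hc
  have h1 : g = 1 := Subtype.ext (Equiv.ext hc)
  rw [h1, orderOf_one] at hg
  exact hp.one_lt.ne hg

/-- A point stabiliser is a π-group when the set holds the smaller primes. -/
theorem isPi_point (a : α) (h : ∀ r : ℕ, r.Prime → r < Fintype.card α → r ∈ π) :
    IsPi π (alternatingGroup α ⊓ keep {a}) := by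
  intro p hp hd
  obtain ⟨g, hg, ho, x, hx⟩ := exists_moved hp hd
  refine h p hp ?_
  have hk : g ∈ keep ({a} : Finset α)ᶜ := fun y => by simpa using not_congr (hg.2 y)
  have hxa : x ∈ ({a} : Finset α)ᶜ := by
    rw [Finset.mem_compl, Finset.mem_singleton]
    rintro rfl
    exact hx (Finset.mem_singleton.mp ((hg.2 x).mpr (Finset.mem_singleton_self x)))
  have := prime_le_of_moved hp ho hk hxa hx
  rw [Finset.card_compl, Finset.card_singleton] at this
  have := Fintype.card_pos_iff.mpr ⟨a⟩
  omega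

theorem mem_of_le_four {p : ℕ} (hp : p.Prime) (h4 : p ≤ 4) : p = 2 ∨ p = 3 := by
  have := hp.two_le
  interval_cases p <;> first | omega | norm_num at *

/-- A stabiliser of a set and its complement of size at most four each. -/
theorem isPi_keep (s : Finset α) (h1 : s.card ≤ 4) (h2 : sᶜ.card ≤ 4) (hs : 2 ∈ π ∧ 3 ∈ π) :
    IsPi π (keepPair s) := by
  intro p hp hd
  suffices p ≤ 4 by rcases mem_of_le_four hp this with rfl | rfl; exacts [hs.1, hs.2]
  by_contra hc
  obtain ⟨g, hg, ho, x, hx⟩ := exists_moved hp hd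
  rcases hg with hg | hg
  · by_cases hxs : x ∈ s
    · have := prime_le_of_moved hp ho hg hxs hx; omega
    · have hk : g ∈ keep sᶜ := fun y => by simpa using not_congr (hg y)
      have := prime_le_of_moved hp ho hk (Finset.mem_compl.mpr hxs) hx; omega
  · have key : ∀ m y, ((g ^ m) y ∈ s ↔ (y ∈ s ↔ Even m)) := by
      intro m
      induction m with
      | zero => simp
      | succ m ih =>
        intro y
        rw [pow_succ', Perm.mul_apply, hg, ih, Nat.even_add_one]
        tauto
    have h := key p x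
    rw [← ho, pow_orderOf_eq_one, Perm.one_apply, ho] at h
    have ho' : ¬ Even p := fun he => by
      have := (hp.even_iff).mp he; omega
    tauto

theorem keep_le_keepPair (s : Finset α) : keep s ≤ keepPair s := fun _ hg => Or.inl hg

/-- A three-cycle. -/
def tri (a b c : α) : Perm α := swap a b * swap b c

/-- A product of two transpositions. -/
def dbl (a b c d : α) : Perm α := swap a b * swap c d

theorem tri_mem {a b c : α} (hab : a ≠ b) (hbc : b ≠ c) : tri a b c ∈ alternatingGroup α := by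
  rw [Perm.mem_alternatingGroup, tri, map_mul, Perm.sign_swap hab, Perm.sign_swap hbc]; rfl

theorem dbl_mem {a b c d : α} (hab : a ≠ b) (hcd : c ≠ d) : dbl a b c d ∈ alternatingGroup α := by
  rw [Perm.mem_alternatingGroup, dbl, map_mul, Perm.sign_swap hab, Perm.sign_swap hcd]; rfl

theorem tri_apply_of_ne {a b c x : α} (h1 : x ≠ a) (h2 : x ≠ b) (h3 : x ≠ c) : tri a b c x = x := by
  rw [tri, Perm.mul_apply, swap_apply_of_ne_of_ne h2 h3, swap_apply_of_ne_of_ne h1 h2]

theorem dbl_apply_of_ne {a b c d x : α} (h1 : x ≠ a) (h2 : x ≠ b) (h3 : x ≠ c) (h4 : x ≠ d) : dbl a b c d x = x := by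
  rw [dbl, Perm.mul_apply, swap_apply_of_ne_of_ne h3 h4, swap_apply_of_ne_of_ne h1 h2]

theorem tri_apply {a b c : α} (hbc : b ≠ c) (hac : a ≠ c) : tri a b c c = a ∧ tri a b c b = c := by
  refine ⟨?_, ?_⟩
  · rw [tri, Perm.mul_apply, swap_apply_right, swap_apply_right]
  · rw [tri, Perm.mul_apply, swap_apply_left, swap_apply_of_ne_of_ne hac.symm hbc.symm]

/-- The index of the stabiliser of a set in the alternating group. -/
theorem relIndex_keep (s : Finset α) (hs : 2 ≤ s.card) :
    (keep s).relIndex (alternatingGroup α) = (Fintype.card α).choose s.card := by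
  open Pointwise in
  have hst : (keep s).subgroupOf (alternatingGroup α) = MulAction.stabilizer (alternatingGroup α) s := by
    ext g
    rw [Subgroup.mem_subgroupOf, mem_keep_iff_image, MulAction.mem_stabilizer_iff]
    rfl
  show ((keep s).subgroupOf (alternatingGroup α)).index = _
  rw [hst, MulAction.index_stabilizer, ← Finset.card_univ, ← Finset.card_powersetCard, ← Set.ncard_coe_finset]
  congr 1
  ext t
  simp only [Finset.mem_coe, Finset.mem_powersetCard, Finset.subset_univ, true_and]
  open Pointwise in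
  constructor
  · rintro ⟨g, rfl⟩
    exact Finset.card_smul_finset g s
  · intro ht
    obtain ⟨a, ha, b, hb, hab⟩ := Finset.one_lt_card.mp hs
    let e : {x // x ∈ s} ≃ {x // x ∈ t} := Fintype.equivOfCardEq (by simpa using ht.symm)
    have he : s.image e.extendSubtype = t := by
      refine Finset.eq_of_subset_of_card_le (fun y hy => ?_) (le_of_eq ?_)
      · obtain ⟨x, hx, rfl⟩ := Finset.mem_image.mp hy
        exact e.extendSubtype_mem x hx
      · rw [Finset.card_image_of_injective _ e.extendSubtype.injective, ht]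
    rcases Int.units_eq_one_or (Perm.sign e.extendSubtype) with h | h
    · exact ⟨⟨e.extendSubtype, h⟩, he⟩
    · refine ⟨⟨e.extendSubtype * swap a b, ?_⟩, ?_⟩
      · rw [Perm.mem_alternatingGroup, map_mul, h, Perm.sign_swap hab]; rfl
      · show s.image (e.extendSubtype * swap a b) = t
        have h1 : s.image (swap a b) = s := mem_keep_iff_image.mp fun x => by
          rcases eq_or_ne x a with rfl | hxa
          · simp [ha, hb]
          rcases eq_or_ne x b with rfl | hxb
          · simp [ha, hb]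
          · rw [swap_apply_of_ne_of_ne hxa hxb]
        rw [Perm.coe_mul, ← Finset.image_image, h1, he]

end CfsgLib.SymHall
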