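import Mathlib

/-!
Binomial coefficients without small prime divisors.
-/

set_option autoImplicit false

namespace CfsgLib.SymHall

/-- All primes of `m` avoid `C`. -/
theorem dvd_of_dvd_choose_mul {m C x : ℕ} (h : m ∣ C * x) (hm : ∀ s : ℕ, s.Prime → s ∣ m → ¬ s ∣ C) : m ∣ x :=
  (Nat.coprime_of_dvd fun k hk hkm hkC => hm k hk hkm hkC).dvd_of_dvd_mul_left h

theorem choose_succ_id (n k : ℕ) : n.choose (k + 1) * (k + 1) = n.choose k * (n - k) :=
  Nat.choose_succ_right_eq n k

/-- The top factor is a prime. -/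
theorem prime_total {A B : ℕ} (hA : 1 ≤ A) (hAB : A ≤ B)
    (h : ∀ s : ℕ, s.Prime → s ∣ A + B → s < A + B → ¬ s ∣ (A + B).choose A) : (A + B).Prime := by
  by_contra hn
  obtain ⟨j, rfl⟩ : ∃ j, A = j + 1 := ⟨A - 1, by omega⟩
  have e : (j + 1 + B) * (j + B).choose j = (j + 1 + B).choose (j + 1) * (j + 1) := by
    have := Nat.add_one_mul_choose_eq (j + B) j
    rwa [show j + B + 1 = j + 1 + B by ring] at this
  have hd : j + 1 + B ∣ j + 1 := dvd_of_dvd_choose_mul ⟨_, e.symm⟩ fun s hs hsn =>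
    h s hs hsn (lt_of_le_of_ne (Nat.le_of_dvd (by omega) hsn) fun e => hn (e ▸ hs))
  have := Nat.le_of_dvd (by omega) hd
  omega

/-- A binomial coefficient prime to every prime up to the larger part. -/
theorem choose_all {A B : ℕ} (hA : 1 ≤ A) (hAB : A ≤ B) (hB : 2 ≤ B)
    (h : ∀ s : ℕ, s.Prime → s ≤ B → ¬ s ∣ (A + B).choose A) :
    (A + B).Prime ∧ (A = 1 ∨ (A = 3 ∧ B = 4)) := by
  have small : ∀ s : ℕ, s.Prime → s ∣ A + B → s < A + B → s ≤ B := fun s hs hsn hlt => by
    obtain ⟨c, hc⟩ := hsn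
    rcases c with _ | _ | c
    · omega
    · omega
    · nlinarith
  have hn := prime_total hA hAB fun s hs hsn hlt => h s hs (small s hs hsn hlt)
  refine ⟨hn, ?_⟩
  rcases Nat.lt_or_ge A 2 with h1 | hA2
  · exact Or.inl (by omega)
  right
  set C := (A + B).choose A with hC
  have hodd : (A + B) % 2 = 1 := Nat.odd_iff.mp (hn.odd_of_ne_two (by omega))
  have copr : ∀ m, (∀ s : ℕ, s.Prime → s ∣ m → s ≤ B) → ∀ x, m ∣ C * x → m ∣ x := fun m hm x hx =>
    dvd_of_dvd_choose_mul hx fun s hs hsm => h s hs (hm s hs hsm)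
  obtain ⟨j, rfl⟩ : ∃ j, A = j + 2 := ⟨A - 2, by omega⟩
  -- the successor of the larger part is prime
  have e1 : C * (j + 2) = (j + 2 + B).choose (j + 1) * (B + 1) := by
    have := choose_succ_id (j + 2 + B) (j + 1)
    rwa [show j + 2 + B - (j + 1) = B + 1 by omega] at this
  have hB1 : (B + 1).Prime := by
    by_contra hp
    have := Nat.le_of_dvd (by omega) (copr (B + 1) (fun s hs hsm => Nat.lt_succ_iff.mp
      (lt_of_le_of_ne (Nat.le_of_dvd (by omega) hsm) fun e => hp (show (B.succ).Prime from e ▸ hs))) (j + 2) ⟨_, by rw [e1]; ring⟩)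
    omega
  have hBev : B % 2 = 0 := by
    have := Nat.odd_iff.mp (hB1.odd_of_ne_two (by omega)); omega
  -- two further divisibilities
  have e0 : (j + 2 + B).choose (j + 1) * (j + 1) = (j + 2 + B).choose j * (B + 2) := by
    have := choose_succ_id (j + 2 + B) j
    rwa [show j + 2 + B - j = B + 2 by omega] at this
  have hM : B + 2 ∣ (j + 2) * (j + 1) := copr (B + 2) (fun s hs hsm => by
      obtain ⟨c, hc⟩ := hsm
      rcases c with _ | _ | c
      · omega
      · have := hs.eq_two_or_odd; omega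
      · nlinarith [hs.two_le]) _ ⟨(j + 2 + B).choose j * (B + 1), by
      calc C * ((j + 2) * (j + 1)) = (j + 2 + B).choose (j + 1) * (j + 1) * (B + 1) := by rw [← mul_assoc, e1]; ring
        _ = _ := by rw [e0]; ring⟩
  have hN : j + 1 + B ∣ (j + 2) * (j + 1) := by
    have a1 := Nat.add_one_mul_choose_eq (j + 1 + B) (j + 1)
    have a2 := Nat.add_one_mul_choose_eq (j + B) j
    rw [show j + 1 + B + 1 = j + 2 + B by ring] at a1
    rw [show j + B + 1 = j + 1 + B by ring] at a2
    refine copr _ (fun s hs hsm => ?_) _ ⟨(j + 2 + B) * (j + B).choose j, ?_⟩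
    · obtain ⟨c, hc⟩ := hsm
      rcases c with _ | _ | c
      · omega
      · have := hs.eq_two_or_odd; omega
      · nlinarith [hs.two_le]
    · calc C * ((j + 2) * (j + 1)) = C * (j + 1 + 1) * (j + 1) := by ring
        _ = (j + 2 + B) * ((j + 1 + B).choose (j + 1) * (j + 1)) := by rw [← a1]; ring
        _ = _ := by rw [← a2]; ring
  have hD : j + 3 ∣ B := copr (j + 3) (fun s hs hsm => by
      have := Nat.le_of_dvd (by omega) hsm; omega) _ ⟨(j + 2 + B).choose (j + 3), by
      have := choose_succ_id (j + 2 + B) (j + 2)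
      rw [show j + 2 + B - (j + 2) = B by omega] at this
      rw [← this]; ring⟩
  obtain ⟨k, rfl⟩ := hD
  obtain ⟨t, ht⟩ := hM
  have hk : 1 ≤ k := by rcases k with _ | k <;> omega
  have h2 : Nat.ModEq (j + 3) (2 * t) 2 := by
    have h3 : Nat.ModEq (j + 3) ((j + 2) * (j + 1)) 2 := by
      rw [Nat.modEq_iff_dvd]
      refine ⟨-(j : ℤ), ?_⟩
      push_cast
      ring
    have h4 : Nat.ModEq (j + 3) ((j + 3) * k + 2) 2 := by
      simp [Nat.ModEq, Nat.add_mod]
    rw [ht] at h3
    exact (h4.mul_right t).symm.trans h3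
  have htj : t < j + 2 := by
    by_contra hc
    have : (j + 3 + 2) * (j + 2) ≤ ((j + 3) * k + 2) * t := Nat.mul_le_mul (by nlinarith) (not_lt.mp hc)
    nlinarith
  have htpos : 1 ≤ t := by rcases t with _ | t <;> simp_all
  obtain ⟨i, hi⟩ : j + 3 ∣ 2 * t - 2 := (Nat.modEq_iff_dvd' (by omega)).mp h2.symm
  have hi2 : i ≤ 1 := by
    by_contra hc
    have : (j + 3) * 2 ≤ (j + 3) * i := Nat.mul_le_mul_left _ (by omega)
    omega
  interval_cases i
  · have ht1 : t = 1 := by omega
    subst ht1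
    rw [mul_one] at ht
    have := Nat.le_of_dvd (by nlinarith) hN
    have hj : j ≤ 1 := by omega
    interval_cases j
    · omega
    · exact ⟨rfl, by omega⟩
  · have ht2 : 2 * t = j + 5 := by omega
    by_cases hk1 : k = 1
    · subst hk1
      have hj : j = 7 := by nlinarith
      subst hj
      exact absurd (show 2 ∣ C by rw [hC]; decide) (h 2 Nat.prime_two (by omega))
    · exfalso
      have : ((j + 3) * 2 + 2) * (2 * t) ≤ ((j + 3) * k + 2) * (2 * t) :=
        Nat.mul_le_mul_right _ (Nat.add_le_add_right (Nat.mul_le_mul_left _ (by omega)) _)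
      nlinarith

/-- The larger part is a prime outside the set. -/
theorem choose_exceptional {A B : ℕ} (hA : 1 ≤ A) (hAB : A ≤ B) (hB : B.Prime) (hB5 : 5 ≤ B)
    (h : ∀ s : ℕ, s.Prime → s < B → ¬ s ∣ (A + B).choose A) : False := by
  have hne : A ≠ B := fun e => by
    subst e
    refine h 2 Nat.prime_two (by omega) ?_
    rw [← two_mul, ← Nat.centralBinom_eq_two_mul_choose]
    obtain ⟨c, hc⟩ : ∃ c, A = c + 1 := ⟨A - 1, by omega⟩
    rw [hc]
    exact Nat.two_dvd_centralBinom_succ c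
  have : A < B := lt_of_le_of_ne hAB hne
  have hlt : ∀ s : ℕ, s.Prime → s ∣ A + B → s < A + B → s < B := fun s hs hsn hl => by
    obtain ⟨c, hc⟩ := hsn
    rcases c with _ | _ | c
    · omega
    · omega
    · nlinarith
  have hn := prime_total hA hAB fun s hs hsn hl => h s hs (hlt s hs hsn hl)
  have hodd := Nat.odd_iff.mp (hn.odd_of_ne_two (by omega))
  have hBo := Nat.odd_iff.mp (hB.odd_of_ne_two (by omega))
  obtain ⟨j, rfl⟩ : ∃ j, A = j + 1 := ⟨A - 1, by omega⟩
  have e1 : (j + 1 + B).choose (j + 1) * (j + 1) = (j + 1 + B).choose j * (B + 1) := by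
    have := choose_succ_id (j + 1 + B) j
    rwa [show j + 1 + B - j = B + 1 by omega] at this
  have hd := Nat.le_of_dvd (by omega) (dvd_of_dvd_choose_mul (m := B + 1) ⟨_, e1.trans (mul_comm _ _)⟩ fun s hs hsm => h s hs (by
    obtain ⟨c, hc⟩ := hsm
    rcases c with _ | _ | c
    · omega
    · have := hs.eq_two_or_odd; omega
    · nlinarith [hs.two_le]))
  omega

/-- The two small exceptions. -/
theorem choose_small {A B : ℕ} (hA : 1 ≤ A) (hAB : A ≤ B) (hB : B = 7 ∨ B = 8) :
    2 ∣ (A + B).choose A ∨ 3 ∣ (A + B).choose A := by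
  rcases hB with rfl | rfl <;> interval_cases A <;> decide

end CfsgLib.SymHall
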