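import Cfsg.Agent.Lib.SymHall.Basic
import Cfsg.Agent.S0713
import Cfsg.Agent.S0675

/-!
Transitive Hall subgroups of alternating groups of prime degree.
-/

set_option autoImplicit false
set_option linter.unusedSectionVars false

namespace CfsgLib.SymHall

open Equiv
open scoped commutatorElement

universe u

variable {α : Type u} [Fintype α] [DecidableEq α] {π : Set ℕ} {M : Subgroup (Perm α)}

/-- Transitivity. -/
def Trans (M : Subgroup (Perm α)) : Prop := ∀ x y, ∃ g ∈ M, g x = y

theorem mem_keep_singleton {a : α} {g : Perm α} : g ∈ keep ({a} : Finset α) ↔ g a = a := by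
  constructor
  · intro h
    exact Finset.mem_singleton.mp ((h a).mpr (Finset.mem_singleton_self a))
  · intro h x
    simp only [Finset.mem_singleton]
    conv_lhs => rw [← h]
    exact g.injective.eq_iff

theorem relIndex_point (hM : Trans M) (a : α) : (keep ({a} : Finset α)).relIndex M = Fintype.card α := by
  have hst : (keep ({a} : Finset α)).subgroupOf M = MulAction.stabilizer M a := by
    ext g
    rw [Subgroup.mem_subgroupOf, mem_keep_singleton, MulAction.mem_stabilizer_iff]
    rfl
  show ((keep ({a} : Finset α)).subgroupOf M).index = _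
  rw [hst, MulAction.index_stabilizer, ← Nat.card_eq_fintype_card, ← Set.ncard_univ]
  congr 1
  refine Set.eq_univ_of_forall fun y => ?_
  obtain ⟨g, hg, e⟩ := hM a y
  exact ⟨⟨g, hg⟩, e⟩

theorem card_dvd_of_trans (hM : Trans M) (a : α) : Fintype.card α ∣ Nat.card M := by
  rw [← relIndex_point hM a]
  exact Subgroup.relIndex_dvd_card _ M

theorem dbl_conj (m : Perm α) (a b c d : α) : m * dbl a b c d * m⁻¹ = dbl (m a) (m b) (m c) (m d) := by
  simp only [dbl, Equiv.swap_apply_apply]
  group

theorem dbl_swap {a b c d : α} : dbl a b c d = dbl b a d c := by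
  rw [dbl, dbl, Equiv.swap_comm a b, Equiv.swap_comm c d]

theorem dbl_comm {a b c d : α} (h1 : a ≠ c) (h2 : a ≠ d) (h3 : b ≠ c) (h4 : b ≠ d) : dbl a b c d = dbl c d a b := by
  have h : Perm.Disjoint (swap a b) (swap c d) := by
    intro x
    by_cases hx : x = a ∨ x = b
    · right
      rcases hx with rfl | rfl
      · exact swap_apply_of_ne_of_ne h1 h2
      · exact swap_apply_of_ne_of_ne h3 h4
    · left
      push Not at hx
      exact swap_apply_of_ne_of_ne hx.1 hx.2
  exact h.commute.eq

theorem dbl_inv {a b c d : α} (h1 : a ≠ c) (h2 : a ≠ d) (h3 : b ≠ c) (h4 : b ≠ d) :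
    (dbl a b c d)⁻¹ = dbl a b c d := by
  conv_rhs => rw [dbl_comm h1 h2 h3 h4]
  rw [dbl, dbl, mul_inv_rev, Equiv.swap_inv, Equiv.swap_inv]

/-- Two double transpositions meeting in one point give a three-cycle. -/
theorem three_cycle_of_dbl {a b c d e f h : α} (hab : a ≠ b) (hae : a ≠ e) (hbe : b ≠ e) (hac : a ≠ c) (had : a ≠ d)
    (hbc : b ≠ c) (hbd : b ≠ d) (hec : e ≠ c) (hed : e ≠ d) (hcd : c ≠ d) (hfc : f ≠ c) (hfd : f ≠ d) (hfa : f ≠ a)
    (hfb : f ≠ b) (hfe : f ≠ e) (hha : h ≠ a) (hhb : h ≠ b) (hhe : h ≠ e) (hhc : h ≠ c) (hhd : h ≠ d) (hfh : f ≠ h) :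
    (dbl a e f h * (dbl a b c d * dbl a e f h * (dbl a b c d)⁻¹)).IsThreeCycle := by
  rw [dbl_conj]
  have e1 : dbl a b c d a = b := by
    rw [dbl, Perm.mul_apply, swap_apply_of_ne_of_ne hac had, swap_apply_left]
  rw [e1, dbl_apply_of_ne hae.symm hbe.symm hec hed, dbl_apply_of_ne hfa hfb hfc hfd,
    dbl_apply_of_ne hha hhb hhc hhd]
  have : dbl a e f h * dbl b e f h = swap e a * swap e b := by
    rw [dbl_comm (a := b) hfb.symm hhb.symm hfe.symm hhe.symm, dbl, dbl, mul_assoc, ← mul_assoc (swap f h),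
      Equiv.swap_mul_self, one_mul, Equiv.swap_comm a e, Equiv.swap_comm b e]
  rw [this]
  exact Perm.isThreeCycle_swap_mul_swap_same hae.symm hbe.symm hab

/-- A normal subgroup of prime order in a transitive group: elements fixing two points are trivial. -/
theorem eq_one_of_normal_prime {q : ℕ} (hq : q.Prime) (hcard : Fintype.card α = q) (hM : Trans M)
    (C : Subgroup (Perm α)) (hCM : C ≤ M) (hC : Nat.card C = q) (hn : ∀ m ∈ M, ∀ c ∈ C, m * c * m⁻¹ ∈ C)
    {g : Perm α} (hg : g ∈ M) {x y : α} (hxy : x ≠ y) (hx : g x = x) (hy : g y = y) : g = 1 := by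
  haveI := Fact.mk hq
  have hd : Nat.card (MulAction.orbit C x) ∣ q := by
    rw [← hC, Nat.card_coe_set_eq, ← MulAction.index_stabilizer]
    exact Subgroup.index_dvd_card _
  have horb : Nat.card (MulAction.orbit C x) = q := by
    rcases hq.eq_one_or_self_of_dvd _ hd with h | h
    · exfalso
      haveI := (Nat.card_eq_one_iff_unique.mp h).1
      have hfix : ∀ c ∈ C, c x = x := fun c hc => congrArg Subtype.val
        (Subsingleton.elim (⟨c x, ⟨⟨c, hc⟩, rfl⟩⟩ : MulAction.orbit C x) ⟨x, MulAction.mem_orbit_self x⟩)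
      have : C = ⊥ := (Subgroup.eq_bot_iff_forall _).mpr fun c hc => Equiv.ext fun z => by
        obtain ⟨m, hm, rfl⟩ := hM x z
        have h' := hfix _ (hn m⁻¹ (inv_mem hm) c hc)
        simp only [inv_inv, Perm.mul_apply] at h'
        have := congrArg m h'
        simpa [Perm.inv_def] using this
      rw [this] at hC
      simp at hC
      exact hq.one_lt.ne hC
    · exact h
  let φ : C → α := fun c => c.1 x
  have hsurj : Function.Surjective φ := by
    have hu : MulAction.orbit C x = Set.univ :=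
      Set.eq_of_subset_of_ncard_le (Set.subset_univ _) (by
        rw [Set.ncard_univ, Nat.card_eq_fintype_card, hcard, ← Nat.card_coe_set_eq, horb])
    intro z
    obtain ⟨c, hc⟩ : z ∈ MulAction.orbit C x := hu ▸ Set.mem_univ z
    exact ⟨c, hc⟩
  have hinj : Function.Injective φ :=
    (hsurj.bijective_of_nat_card_le (by rw [hC, Nat.card_eq_fintype_card, hcard])).1
  obtain ⟨c₀, hc₀⟩ := hsurj y
  have hgx : g⁻¹ x = x := by
    conv_lhs => rw [← hx]
    simp [Perm.inv_def]
  have hfix : (⟨g * c₀.1 * g⁻¹, hn g hg _ c₀.2⟩ : C) = c₀ := hinj (by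
    show g (c₀.1 (g⁻¹ x)) = c₀.1 x
    rw [hgx, show c₀.1 x = y from hc₀, hy])
  have hne : c₀ ≠ 1 := fun e => hxy (by rw [← hc₀, e]; rfl)
  refine Equiv.ext fun z => ?_
  obtain ⟨c, rfl⟩ := hsurj z
  obtain ⟨k, rfl⟩ := Subgroup.mem_zpowers_iff.mp
    (mem_zpowers_of_prime_card hC hne : c ∈ Subgroup.zpowers c₀)
  show g ((c₀ ^ k : C).1 x) = (c₀ ^ k : C).1 x
  have hcomm : Commute g (c₀.1 ^ k) := Commute.zpow_right (mul_inv_eq_iff_eq_mul.mp (congrArg Subtype.val hfix)) k
  rw [Subgroup.coe_zpow]
  calc g ((c₀.1 ^ k) x) = (g * c₀.1 ^ k) x := rfl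
    _ = ((c₀.1 ^ k) * g) x := by rw [hcomm.eq]
    _ = (c₀.1 ^ k) x := by rw [Perm.mul_apply, hx]

/-- An element conjugate into the subgroup. -/
theorem exists_conj (hM : AltHall π M) {p : ℕ} (hp : p.Prime) (hpπ : p ∈ π) {x : Perm α}
    (hx : x ∈ alternatingGroup α) (ho : orderOf x = p) : ∃ g : Perm α, g * x * g⁻¹ ∈ M := by
  haveI := Fact.mk hp
  obtain ⟨g, -, hg⟩ := exists_conj_mem hM.le (hM.full p hp hpπ) hx (k := 1) (by rw [pow_one, ho])
  exact ⟨g, hg⟩

/-- A cycle of given odd length. -/
theorem exists_cycle {r : ℕ} (h2 : 2 ≤ r) (hodd : r % 2 = 1) (hr : r ≤ Fintype.card α) :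
    ∃ c : Perm α, c.IsCycle ∧ c.support.card = r ∧ c ∈ alternatingGroup α := by
  obtain ⟨s, -, hs⟩ := Finset.exists_subset_card_eq (s := (Finset.univ : Finset α)) (n := r) (by rwa [Finset.card_univ])
  have hnd : s.toList.Nodup := s.nodup_toList
  have hlen : s.toList.length = r := by rw [Finset.length_toList, hs]
  have hsupp : s.toList.formPerm.support = s := by
    rw [List.support_formPerm_of_nodup _ hnd (fun x hx => by rw [hx] at hlen; simp at hlen; omega), Finset.toList_toFinset]
  refine ⟨s.toList.formPerm, List.isCycle_formPerm hnd (by omega), by rw [hsupp, hs], ?_⟩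
  rw [Perm.mem_alternatingGroup, (List.isCycle_formPerm hnd (by omega)).sign, hsupp, hs,
    Odd.neg_one_pow (Nat.odd_iff.mpr hodd), neg_neg]

/-- The prime degree case. -/
theorem no_prime_degree (hM : AltHall π M) (htr : Trans M) {q r : ℕ} (hq : q.Prime) (hcard : Fintype.card α = q)
    (h5 : 5 ≤ q) (hr : r.Prime) (hrπ : r ∈ π) (hrq : r < q)
    (huniq : ∀ s : ℕ, s.Prime → s ∈ π → s < q → s = r) (a : α) : False := by
  haveI := Fact.mk hq
  haveI := Fact.mk hr
  haveI : MulAction.IsPretransitive M α := ⟨fun x y => by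
    obtain ⟨g, hg, e⟩ := htr x y; exact ⟨⟨g, hg⟩, e⟩⟩
  have hprim : MulAction.IsPreprimitive M α :=
    MulAction.IsPreprimitive.of_prime_card (by rw [Nat.card_eq_fintype_card, hcard]; exact hq)
  have hnalt : ¬ alternatingGroup α ≤ M := fun h => by
    haveI : Nontrivial α := Fintype.one_lt_card_iff_nontrivial.mp (by omega)
    have hd : ∀ s : ℕ, s.Prime → s ≤ q → s ∈ π := fun s hs hsq => by
      refine hM.pi s hs ?_
      rw [le_antisymm hM.le h, nat_card_alternatingGroup, Nat.card_eq_fintype_card, hcard]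
      rcases eq_or_ne s 2 with rfl | hne
      · refine Nat.dvd_div_of_mul_dvd ((show 2 * 2 ∣ (4 : ℕ).factorial by decide).trans (Nat.factorial_dvd_factorial (by omega)))
      · refine Nat.dvd_div_of_mul_dvd ((Nat.coprime_primes Nat.prime_two hs).mpr (Ne.symm hne) |>.mul_dvd_of_dvd_of_dvd
          (Nat.dvd_factorial two_pos (by omega)) (Nat.dvd_factorial hs.pos hsq))
    have h23 : 2 = r := huniq 2 Nat.prime_two (hd 2 Nat.prime_two (by omega)) (by omega)
    have h32 : 3 = r := huniq 3 Nat.prime_three (hd 3 Nat.prime_three (by omega)) (by omega)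
    omega
  have hfac : Nat.card M ∣ q.factorial := by
    refine (Subgroup.card_subgroup_dvd_card M).trans (dvd_of_eq ?_)
    rw [Nat.card_perm, Nat.card_eq_fintype_card, hcard]
  obtain ⟨w, hw⟩ := card_dvd_of_trans htr a
  rw [hcard] at hw
  have hw' : w ∣ (q - 1).factorial := by
    rw [hw, ← Nat.mul_factorial_pred hq.ne_zero] at hfac
    exact Nat.dvd_of_mul_dvd_mul_left hq.pos hfac
  have hwr : ∀ s : ℕ, s.Prime → s ∣ w → s = r := fun s hs hsw => by
    have := hs.dvd_factorial.mp (hsw.trans hw')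
    exact huniq s hs (hM.pi s hs (hw ▸ hsw.mul_left q)) (by omega)
  rcases hr.eq_two_or_odd with rfl | hrodd
  · -- the case two
    obtain ⟨l, hl⟩ : ∃ l, w = 2 ^ l := ⟨_, (Nat.eq_prime_pow_of_unique_prime_dvd
      (fun h => by rw [h, mul_zero] at hw; exact Nat.card_pos.ne' hw) (fun {d} hd hdw => hwr d hd hdw))⟩
    obtain ⟨b, hb⟩ : ∃ b : Fin 4 → α, Function.Injective b := by
      obtain ⟨e⟩ := Function.Embedding.nonempty_of_card_le (α := Fin 4) (β := α) (by rw [Fintype.card_fin]; omega)
      exact ⟨e, e.injective⟩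
    have nb : ∀ i j : Fin 4, i ≠ j → b i ≠ b j := fun i j h => hb.ne h
    have ho : orderOf (dbl (b 0) (b 1) (b 2) (b 3)) = 2 := by
      refine orderOf_eq_prime ?_ ?_
      · rw [pow_two, ← eq_inv_iff_mul_eq_one, dbl_inv (nb 0 2 (by decide)) (nb 0 3 (by decide)) (nb 1 2 (by decide)) (nb 1 3 (by decide))]
      · intro e
        have := congrArg (fun g : Perm α => g (b 0)) e
        simp only [dbl, Perm.mul_apply, swap_apply_of_ne_of_ne (nb 0 2 (by decide)) (nb 0 3 (by decide)),
          swap_apply_left, Perm.one_apply] at this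
        exact nb 0 1 (by decide) this.symm
    obtain ⟨g₀, hg₀⟩ := exists_conj hM Nat.prime_two hrπ (dbl_mem (nb 0 1 (by decide)) (nb 2 3 (by decide))) ho
    rw [dbl_conj] at hg₀
    set p₀ := g₀ (b 0)
    set p₁ := g₀ (b 1)
    set p₂ := g₀ (b 2)
    set p₃ := g₀ (b 3)
    have n01 : p₀ ≠ p₁ := g₀.injective.ne (nb 0 1 (by decide))
    have n02 : p₀ ≠ p₂ := g₀.injective.ne (nb 0 2 (by decide))
    have n03 : p₀ ≠ p₃ := g₀.injective.ne (nb 0 3 (by decide))
    have n12 : p₁ ≠ p₂ := g₀.injective.ne (nb 1 2 (by decide))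
    have n13 : p₁ ≠ p₃ := g₀.injective.ne (nb 1 3 (by decide))
    have n23 : p₂ ≠ p₃ := g₀.injective.ne (nb 2 3 (by decide))
    clear_value p₀ p₁ p₂ p₃
    rcases lt_or_ge q 7 with h7 | h7
    · -- degree five
      have hq5 : q = 5 := by
        interval_cases q
        · rfl
        · norm_num at hq
      subst hq5
      haveI : Nontrivial α := Fintype.one_lt_card_iff_nontrivial.mp (by omega)
      have hA : Nat.card (alternatingGroup α) = 60 := by
        rw [nat_card_alternatingGroup, Nat.card_eq_fintype_card, hcard]; rfl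
      set H := M.subgroupOf (alternatingGroup α) with hH
      have hHc : Nat.card H = Nat.card M := Nat.card_congr (Subgroup.subgroupOfEquivOfLe hM.le).toEquiv
      have hmul := H.card_mul_index
      have hodd : ¬ 2 ∣ H.index := hM.full 2 Nat.prime_two hrπ
      rw [hA, hHc, hw, hl] at hmul
      obtain ⟨-, hidx⟩ : l ≤ 4 ∧ H.index = 3 := by
        have hl4 : l ≤ 4 := by
          have h24 : 2 ^ l ∣ 24 := hl ▸ hw'
          have := Nat.le_of_dvd (by norm_num) h24
          by_contra hc
          have : 2 ^ 5 ≤ 2 ^ l := Nat.pow_le_pow_right two_pos (by omega)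
          omega
        refine ⟨hl4, ?_⟩
        have hodd' : H.index % 2 = 1 := by omega
        interval_cases l <;> norm_num at hmul <;> omega
      haveI : IsSimpleGroup (alternatingGroup α) := alternatingGroup.isSimpleGroup (by rw [Nat.card_eq_fintype_card, hcard])
      have hker : H.normalCore = ⊥ := by
        rcases (inferInstance : H.normalCore.Normal).eq_bot_or_eq_top with h | h
        · exact h
        · have : H = ⊤ := top_le_iff.mp (h ▸ H.normalCore_le)
          rw [this, Subgroup.index_top] at hidx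
          omega
      have hd : Nat.card (alternatingGroup α) ∣ Nat.factorial 3 := by
        have hinj : Function.Injective (MulAction.toPermHom (alternatingGroup α) (alternatingGroup α ⧸ H)) :=
          (MonoidHom.ker_eq_bot_iff _).mp (by rw [← Subgroup.normalCore_eq_ker, hker])
        refine (Subgroup.card_dvd_of_injective _ hinj).trans (dvd_of_eq ?_)
        rw [Nat.card_perm]
        show (Nat.card (alternatingGroup α ⧸ H)).factorial = _
        rw [← Subgroup.index_eq_card, hidx]
      rw [hA] at hd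
      norm_num [Nat.factorial] at hd
    rcases Cfsg.Agent.S0675.result (hcard ▸ hq) M with hsol | h2t
    · -- a regular normal subgroup
      obtain ⟨k, hk, hk'⟩ : ∃ k, derivedSeries M k ≠ ⊥ ∧ derivedSeries M (k + 1) = ⊥ := by
        obtain ⟨K, hK⟩ := (Group.isSolvable_def M).mp hsol
        have hne : derivedSeries M 0 ≠ ⊥ := by
          intro h
          have hc : Nat.card M = 1 := by rw [← Subgroup.card_top, ← derivedSeries_zero, h, Subgroup.card_bot]
          rw [hw] at hc
          have := Nat.eq_one_of_mul_eq_one_right hc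
          omega
        induction K with
        | zero => exact absurd hK hne
        | succ K ih =>
          by_cases h : derivedSeries M K = ⊥
          · exact ih h
          · exact ⟨K, h, hK⟩
      set D := derivedSeries M k
      haveI : D.Normal := derivedSeries_normal M k
      have hcomm : ∀ u ∈ D, ∀ v ∈ D, u * v = v * u := by
        intro u hu v hv
        have h1 : ⁅u, v⁆ ∈ derivedSeries M (k + 1) := Subgroup.commutator_mem_commutator hu hv
        rw [hk', Subgroup.mem_bot, commutatorElement_eq_one_iff_mul_comm] at h1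
        exact h1
      set C : Subgroup (Perm α) := D.map M.subtype
      have hCn : ∀ m ∈ M, ∀ c ∈ C, m * c * m⁻¹ ∈ C := by
        rintro m hm _ ⟨d, hd, rfl⟩
        exact ⟨⟨m, hm⟩ * d * ⟨m, hm⟩⁻¹, Subgroup.Normal.conj_mem ‹_› d hd _, rfl⟩
      have hCt : ∀ x y, ∃ c ∈ C, c x = y := by
        have : MulAction.IsPretransitive D α := MulAction.IsQuasiPreprimitive.isPretransitive_of_normal (N := D) (by
          intro h
          refine hk ((Subgroup.eq_bot_iff_forall _).mpr fun d hd => Subtype.ext (Equiv.ext fun z => ?_))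
          have hz : z ∈ MulAction.fixedPoints D α := h ▸ Set.mem_univ z
          exact hz ⟨d, hd⟩)
        intro x y
        obtain ⟨d, e⟩ := MulAction.exists_smul_eq D x y
        exact ⟨d.1.1, ⟨d.1, d.2, rfl⟩, e⟩
      have hCcard : Nat.card C = q := by
        rw [← hcard, ← Nat.card_eq_fintype_card]
        refine Nat.card_eq_of_bijective (fun c : C => c.1 a) ⟨fun c c' h => Subtype.ext (Equiv.ext fun z => ?_), fun y => ?_⟩
        · obtain ⟨d, hd, rfl⟩ := hCt a z
          obtain ⟨u, hu, hu'⟩ := c.2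
          obtain ⟨v, hv, hv'⟩ := c'.2
          obtain ⟨d0, hd0, rfl⟩ := hd
          have e1 : c.1 * (d0 : Perm α) = (d0 : Perm α) * c.1 := by
            rw [← hu']; exact congrArg Subtype.val (hcomm u hu d0 hd0)
          have e2 : c'.1 * (d0 : Perm α) = (d0 : Perm α) * c'.1 := by
            rw [← hv']; exact congrArg Subtype.val (hcomm v hv d0 hd0)
          show (c.1 * (d0 : Perm α)) a = (c'.1 * (d0 : Perm α)) a
          rw [e1, e2]
          exact congrArg (d0 : Perm α) h
        · obtain ⟨c, hc, e⟩ := hCt a y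
          exact ⟨⟨c, hc⟩, e⟩
      obtain ⟨x, y, hx, hy, hxy⟩ : ∃ x y : α, x ∉ ({p₀, p₁, p₂, p₃} : Finset α) ∧ y ∉ ({p₀, p₁, p₂, p₃} : Finset α) ∧ x ≠ y := by
        have h4 : ({p₀, p₁, p₂, p₃} : Finset α).card ≤ 4 := Finset.card_le_four
        have : 1 < ({p₀, p₁, p₂, p₃} : Finset α)ᶜ.card := by rw [Finset.card_compl]; omega
        obtain ⟨x, hx, y, hy, hxy⟩ := Finset.one_lt_card.mp this
        exact ⟨x, y, Finset.mem_compl.mp hx, Finset.mem_compl.mp hy, hxy⟩
      simp only [Finset.mem_insert, Finset.mem_singleton, not_or] at hx hy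
      have h1 := eq_one_of_normal_prime hq hcard htr C (Subgroup.map_subtype_le _) hCcard hCn hg₀ hxy
        (dbl_apply_of_ne hx.1 hx.2.1 hx.2.2.1 hx.2.2.2) (dbl_apply_of_ne hy.1 hy.2.1 hy.2.2.1 hy.2.2.2)
      have := congrArg (fun g : Perm α => g p₀) h1
      simp only [dbl, Perm.mul_apply, swap_apply_of_ne_of_ne n02 n03, swap_apply_left, Perm.one_apply] at this
      exact n01 this.symm
    · -- two-transitive
      have h2 : ∀ {a b c d : α}, a ≠ b → c ≠ d → ∃ g : M, g • a = c ∧ g • b = d :=
        fun {a b c d} => MulAction.is_two_pretransitive_iff.mp h2t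
      have hst : ∀ x y, x ≠ p₀ → y ≠ p₀ → ∃ g ∈ M, g p₀ = p₀ ∧ g x = y := fun x y hx hy => by
        obtain ⟨g, e1, e2⟩ := h2 (Ne.symm hx) (Ne.symm hy)
        exact ⟨g.1, g.2, e1, e2⟩
      -- the size of the degree
      have hN : 16 ≤ q - 1 := by
        have hd : q - 1 ∣ Nat.card M := by
          obtain ⟨x, hx⟩ := Fintype.exists_ne_of_one_lt_card (α := α) (by omega) p₀
          have hst' : ∀ y, y ∈ MulAction.orbit (M ⊓ keep {p₀} : Subgroup (Perm α)) x ↔ y ≠ p₀ := fun y => by
            constructor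
            · rintro ⟨g, rfl⟩ e
              exact hx (g.1.injective (e.trans (mem_keep_singleton.mp g.2.2).symm))
            · intro hy
              obtain ⟨g, hg, e1, e2⟩ := hst x y hx hy
              exact ⟨⟨g, hg, mem_keep_singleton.mpr e1⟩, e2⟩
          have e : (MulAction.orbit (M ⊓ keep {p₀} : Subgroup (Perm α)) x).ncard = q - 1 := by
            rw [show MulAction.orbit (M ⊓ keep {p₀} : Subgroup (Perm α)) x = {p₀}ᶜ from Set.ext hst', Set.ncard_compl,
              Set.ncard_singleton, Nat.card_eq_fintype_card, hcard]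
          rw [← e, ← MulAction.index_stabilizer]
          exact (Subgroup.index_dvd_card _).trans (Subgroup.card_dvd_of_le inf_le_left)
        rw [hw] at hd
        have hd2 : q - 1 ∣ 2 ^ l := hl ▸ (Nat.Coprime.dvd_of_dvd_mul_left ((hq.coprime_iff_not_dvd.mpr fun h => by
          have := Nat.le_of_dvd (by omega) h; omega).symm) hd)
        obtain ⟨i, -, hi⟩ := (Nat.dvd_prime_pow Nat.prime_two).mp hd2
        rcases Nat.lt_or_ge i 4 with hi4 | hi4
        · exfalso
          interval_cases i
          all_goals (have hq' : q = 2 ∨ q = 3 ∨ q = 5 ∨ q = 9 := by omega)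
          all_goals rcases hq' with rfl | rfl | rfl | rfl
          all_goals first | omega | norm_num at hq
        · rw [hi]; exact (show 2 ^ 4 ≤ 2 ^ i from Nat.pow_le_pow_right two_pos hi4)
      -- a translate meeting the support in one point
      set X : Finset α := {p₀, p₁, p₂, p₃} with hX
      have hX4 : (X.erase p₀).card = 3 := by
        rw [hX, Finset.erase_insert (by simp [n01, n02, n03])]
        simp [n12, n13, n23]
      classical
      set T : Finset (Finset α) := Finset.univ.filter fun Y => p₀ ∈ Y ∧ ∃ m ∈ M, X.image m = Y with hT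
      have hXT : X ∈ T := Finset.mem_filter.mpr ⟨Finset.mem_univ _, by simp [hX], 1, one_mem M, by simp⟩
      obtain ⟨x₁, hx₁⟩ := Fintype.exists_ne_of_one_lt_card (α := α) (by omega) p₀
      set c := (T.filter fun Y => x₁ ∈ Y).card
      have hconst : ∀ x, x ≠ p₀ → (T.filter fun Y => x ∈ Y).card = c := by
        intro x hx
        obtain ⟨g, hg, e1, e2⟩ := hst x₁ x hx₁ hx
        refine (Finset.card_bij (fun Y _ => Y.image g) ?_ ?_ ?_).symm
        · intro Y hY
          simp only [hT, Finset.mem_filter, Finset.mem_univ, true_and] at hY ⊢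
          obtain ⟨⟨h0, m, hm, hmY⟩, h1⟩ := hY
          refine ⟨⟨Finset.mem_image.mpr ⟨p₀, h0, e1⟩, g * m, mul_mem hg hm, ?_⟩, Finset.mem_image.mpr ⟨x₁, h1, e2⟩⟩
          rw [← hmY, Finset.image_image]; rfl
        · intro Y _ Y' _ h
          exact Finset.image_injective g.injective h
        · intro Y hY
          simp only [hT, Finset.mem_filter, Finset.mem_univ, true_and] at hY ⊢
          obtain ⟨⟨h0, m, hm, hmY⟩, h1⟩ := hY
          refine ⟨Y.image (g⁻¹ : Perm α), ⟨⟨Finset.mem_image.mpr ⟨p₀, h0, ?_⟩, g⁻¹ * m, mul_mem (inv_mem hg) hm, ?_⟩,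
            Finset.mem_image.mpr ⟨x, h1, ?_⟩⟩, ?_⟩
          · conv_lhs => rw [← e1]
            simp [Perm.inv_def]
          · rw [← hmY, Finset.image_image]; rfl
          · rw [← e2]; simp [Perm.inv_def]
          · rw [Finset.image_image]; ext z; simp [Perm.inv_def]
      have hcount : ∀ s : Finset α, p₀ ∉ s → ∑ Y ∈ T, (Y ∩ s).card = s.card * c := by
        intro s hs
        have e : ∀ Y : Finset α, (Y ∩ s).card = ∑ x ∈ s, if x ∈ Y then 1 else 0 := fun Y => by
          rw [← Finset.card_filter, Finset.inter_comm, Finset.filter_mem_eq_inter]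
        simp only [e]
        rw [Finset.sum_comm, ← smul_eq_mul, ← Finset.sum_const]
        refine Finset.sum_congr rfl fun x hx => ?_
        rw [← Finset.card_filter, hconst x fun h => hs (h ▸ hx)]
      have hall : T.card * 3 = (q - 1) * c := by
        have h := hcount ({p₀}ᶜ) (by simp)
        rw [Finset.card_compl, Finset.card_singleton, hcard] at h
        rw [← h, ← smul_eq_mul, ← Finset.sum_const]
        refine Finset.sum_congr rfl fun Y hY => ?_
        simp only [hT, Finset.mem_filter, Finset.mem_univ, true_and] at hY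
        obtain ⟨h0, m, -, rfl⟩ := hY
        rw [show X.image m ∩ {p₀}ᶜ = (X.image m).erase p₀ by ext z; simp [and_comm],
          Finset.card_erase_of_mem h0, Finset.card_image_of_injective _ m.injective]
        rw [hX, Finset.card_insert_of_notMem (by simp [n01, n02, n03]),
          Finset.card_insert_of_notMem (by simp [n12, n13]), Finset.card_insert_of_notMem (by simp [n23]),
          Finset.card_singleton]
      have hsum := hcount (X.erase p₀) (by simp)
      rw [hX4] at hsum
      by_cases hex : ∃ Y ∈ T, (Y ∩ X.erase p₀).card = 0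
      · obtain ⟨Y, hY, h0⟩ := hex
        simp only [hT, Finset.mem_filter, Finset.mem_univ, true_and] at hY
        obtain ⟨hp0, m, hm, hmY⟩ := hY
        have hy : dbl (m p₀) (m p₁) (m p₂) (m p₃) ∈ M := by
          rw [← dbl_conj]
          exact mul_mem (mul_mem hm hg₀) (inv_mem hm)
        have hout : ∀ z ∈ Y, z ≠ p₀ → z ≠ p₁ ∧ z ≠ p₂ ∧ z ≠ p₃ := by
          intro z hz hz0
          rw [Finset.card_eq_zero] at h0
          have : z ∉ X.erase p₀ := fun hh => by
            have hzz : z ∈ Y ∩ X.erase p₀ := Finset.mem_inter.mpr ⟨hz, hh⟩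
            rw [h0] at hzz
            simp at hzz
          refine ⟨?_, ?_, ?_⟩ <;> rintro rfl <;> apply this <;> simp [hX, hz0]
        obtain ⟨e, f, h, he, hf, hh, hdbl, nae, naf, nah, nef, neh, nfh⟩ : ∃ e f h, e ∈ Y ∧ f ∈ Y ∧ h ∈ Y ∧
            dbl (m p₀) (m p₁) (m p₂) (m p₃) = dbl p₀ e f h ∧
            p₀ ≠ e ∧ p₀ ≠ f ∧ p₀ ≠ h ∧ e ≠ f ∧ e ≠ h ∧ f ≠ h := by
          have hmem : ∀ z ∈ X, m z ∈ Y := fun z hz => hmY ▸ Finset.mem_image_of_mem m hz
          have i01 := m.injective.ne n01; have i02 := m.injective.ne n02; have i03 := m.injective.ne n03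
          have i12 := m.injective.ne n12; have i13 := m.injective.ne n13; have i23 := m.injective.ne n23
          rw [← hmY, hX] at hp0
          simp only [Finset.image_insert, Finset.image_singleton, Finset.mem_insert, Finset.mem_singleton] at hp0
          rcases hp0 with h | h | h | h
          · exact ⟨m p₁, m p₂, m p₃, hmem _ (by simp [hX]), hmem _ (by simp [hX]), hmem _ (by simp [hX]), by rw [← h],
              h ▸ i01, h ▸ i02, h ▸ i03, i12, i13, i23⟩
          · exact ⟨m p₀, m p₃, m p₂, hmem _ (by simp [hX]), hmem _ (by simp [hX]), hmem _ (by simp [hX]),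
              by rw [dbl_swap, ← h], h ▸ i01.symm, h ▸ i13, h ▸ i12, i03, i02, i23.symm⟩
          · exact ⟨m p₃, m p₀, m p₁, hmem _ (by simp [hX]), hmem _ (by simp [hX]), hmem _ (by simp [hX]),
              by rw [dbl_comm i02 i03 i12 i13, ← h], h ▸ i23, h ▸ i02.symm, h ▸ i12.symm, i03.symm, i13.symm, i01⟩
          · exact ⟨m p₂, m p₁, m p₀, hmem _ (by simp [hX]), hmem _ (by simp [hX]), hmem _ (by simp [hX]),
              by rw [dbl_comm i02 i03 i12 i13, dbl_swap, ← h], h ▸ i23.symm, h ▸ i13.symm, h ▸ i03.symm,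
              i12.symm, i02.symm, i01.symm⟩
        obtain ⟨e1, e2, e3⟩ := hout e he nae.symm
        obtain ⟨f1, f2, f3⟩ := hout f hf naf.symm
        obtain ⟨h1, h2', h3⟩ := hout h hh nah.symm
        rw [hdbl] at hy
        exact hnalt (Perm.alternatingGroup_le_of_isPreprimitive_of_isThreeCycle_mem hprim
          (three_cycle_of_dbl n01 nae (Ne.symm e1) n02 n03 n12 n13 e2 e3 n23 f2 f3 naf.symm f1 nef.symm
            nah.symm h1 neh.symm h2' h3 nfh) (mul_mem hy (mul_mem (mul_mem hg₀ hy) (inv_mem hg₀))))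
      · push Not at hex
        have hone : ∀ Y ∈ T, 1 ≤ (Y ∩ X.erase p₀).card := fun Y hY => Nat.one_le_iff_ne_zero.mpr (hex Y hY)
        have : T.card + 2 ≤ ∑ Y ∈ T, (Y ∩ X.erase p₀).card := by
          rw [← Finset.add_sum_erase _ _ hXT, Finset.inter_eq_right.mpr (Finset.erase_subset _ _), hX4]
          have h' := Finset.card_nsmul_le_sum (T.erase X) (fun Y => (Y ∩ X.erase p₀).card) 1
            fun Y hY => hone Y (Finset.mem_of_mem_erase hY)
          rw [smul_eq_mul, mul_one, Finset.card_erase_of_mem hXT] at h'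
          have := Finset.card_pos.mpr ⟨X, hXT⟩
          omega
        rw [hsum] at this
        have : 16 * c ≤ (q - 1) * c := Nat.mul_le_mul_right c hN
        omega
  · -- odd prime
    obtain ⟨c, hcyc, hcs, hca⟩ := exists_cycle (α := α) hr.two_le hrodd (by omega)
    obtain ⟨g₀, hg₀⟩ := exists_conj hM hr hrπ hca (by rw [hcyc.orderOf, hcs])
    have hcyc' : (g₀ * c * g₀⁻¹).IsCycle := hcyc.conj
    have hcs' : (g₀ * c * g₀⁻¹).support.card = r := by rw [Perm.card_support_conj, hcs]
    rcases le_or_gt (r + 3) q with h3 | h3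
    · exact hnalt (Cfsg.Agent.S0713.result M hprim hr (by omega) (by omega) hcyc' hcs' hg₀)
    have hqodd := Nat.odd_iff.mp (hq.odd_of_ne_two (by omega))
    have hrq2 : r + 2 = q := by omega
    obtain ⟨x, y, hx, hy, hxy⟩ : ∃ x y : α, (g₀ * c * g₀⁻¹) x = x ∧ (g₀ * c * g₀⁻¹) y = y ∧ x ≠ y := by
      have : 1 < (g₀ * c * g₀⁻¹).supportᶜ.card := by rw [Finset.card_compl, hcs']; omega
      obtain ⟨x, hx, y, hy, hxy⟩ := Finset.one_lt_card.mp this
      exact ⟨x, y, Perm.notMem_support.mp (Finset.mem_compl.mp hx), Perm.notMem_support.mp (Finset.mem_compl.mp hy), hxy⟩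
    obtain ⟨P⟩ : Nonempty (Sylow q M) := inferInstance
    have hqw : ¬ q ∣ w := fun hd => by
      have := hq.dvd_factorial.mp (hd.trans hw'); omega
    have hPc : Nat.card (P : Subgroup M) = q := by
      rw [P.card_eq_multiplicity, hw, Nat.factorization_mul hq.ne_zero (fun h => by
        rw [h, mul_zero] at hw; exact Nat.card_pos.ne' hw)]
      rw [Finsupp.add_apply, hq.factorization_self, Nat.factorization_eq_zero_of_not_dvd hqw, add_zero, pow_one]
    have hwd : w ∣ r := by
      obtain ⟨l, hl⟩ : ∃ l, w = r ^ l := ⟨_, Nat.eq_prime_pow_of_unique_prime_dvd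
        (fun h => by rw [h, mul_zero] at hw; exact Nat.card_pos.ne' hw) (fun {d} hd hdw => hwr d hd hdw)⟩
      rcases Nat.lt_or_ge l 2 with hl2 | hl2
      · rw [hl]
        exact (pow_dvd_pow r (show l ≤ 1 by omega)).trans (dvd_of_eq (pow_one r))
      · exfalso
        have h2r : r ^ 2 ∣ (q - 1).factorial := (pow_dvd_pow r hl2).trans (hl ▸ hw')
        rw [show q - 1 = r + 1 by omega, Nat.factorial_succ, pow_two] at h2r
        rw [← Nat.mul_factorial_pred hr.ne_zero, mul_left_comm] at h2r
        rcases hr.dvd_mul.mp (Nat.dvd_of_mul_dvd_mul_left hr.pos h2r) with h' | h'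
        · rw [Nat.dvd_add_self_left] at h'; exact hr.one_lt.ne' (Nat.dvd_one.mp h')
        · have := hr.dvd_factorial.mp h'; omega
    have hidx : (P : Subgroup M).index = w := by
      have := (P : Subgroup M).card_mul_index
      rw [hPc, hw] at this
      exact Nat.eq_of_mul_eq_mul_left hq.pos this
    have hnP : Nat.card (Sylow q M) = 1 := by
      have h1 := (Sylow.card_dvd_index P).trans (hidx ▸ hwd)
      rcases hr.eq_one_or_self_of_dvd _ h1 with h | h
      · exact h
      · exfalso
        have h2 := card_sylow_modEq_one q M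
        rw [h, Nat.ModEq, Nat.mod_eq_of_lt hrq, Nat.mod_eq_of_lt hq.one_lt] at h2
        exact hr.one_lt.ne' h2
    haveI : Subsingleton (Sylow q M) := (Nat.card_eq_one_iff_unique.mp hnP).1
    haveI : (P : Subgroup M).Normal := P.normal_of_subsingleton
    have h1 := eq_one_of_normal_prime hq hcard htr ((P : Subgroup M).map M.subtype) (Subgroup.map_subtype_le _)
      (by rw [Subgroup.card_map_of_injective M.subtype_injective, hPc]) (by
        rintro m hm _ ⟨d, hd, rfl⟩
        exact ⟨⟨m, hm⟩ * d * ⟨m, hm⟩⁻¹, Subgroup.Normal.conj_mem ‹_› d hd _, rfl⟩) hg₀ hxy hx hy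
    rw [h1, Perm.support_one, Finset.card_empty] at hcs'
    exact hr.ne_zero hcs'.symm

end CfsgLib.SymHall
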