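import Cfsg.Agent.Lib.SymHall.Numeric
import Cfsg.Agent.Lib.SymHall.PrimeDegree

/-!
The proper Hall subgroups of alternating groups with two primes: point stabilisers in prime degree,
and two stabilisers in degrees seven and eight.
-/

set_option autoImplicit false
set_option linter.unusedSectionVars false

namespace CfsgLib.SymHall

open Equiv

universe u

variable {π : Set ℕ}

/-- Exactly the primes two and three. -/
def Two3 (π : Set ℕ) (n : ℕ) : Prop :=
  2 ∈ π ∧ 3 ∈ π ∧ ∀ p : ℕ, p.Prime → p ≤ n → 5 ≤ p → p ∉ π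

/-- Exactly the primes below `n`. -/
def BelowN (π : Set ℕ) (n : ℕ) : Prop := ∀ p : ℕ, p.Prime → p ≤ n → (p ∈ π ↔ p < n)

section

variable {α : Type u} [Fintype α] [DecidableEq α] {M : Subgroup (Perm α)}

/-- The three exceptional configurations. -/
def Exc (π : Set ℕ) (M : Subgroup (Perm α)) : Prop :=
  ((Fintype.card α).Prime ∧ BelowN π (Fintype.card α) ∧ ∃ a, M ≤ keep {a}) ∨
  (Fintype.card α = 7 ∧ Two3 π (Fintype.card α) ∧ ∃ s : Finset α, s.card = 3 ∧ M ≤ keep s) ∨
  (Fintype.card α = 8 ∧ Two3 π (Fintype.card α) ∧ ∃ s : Finset α, s.card = 4 ∧ M ≤ keepPair s)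

theorem keep_of_fix_mem {s : Finset α} {g : Perm α} (h : ∀ x ∈ s, g x = x) : g ∈ keep s := by
  intro x
  refine ⟨fun hx => ?_, fun hx => by rwa [h x hx]⟩
  have := g.injective (h _ hx)
  rwa [this] at hx

theorem keep_of_fix_not_mem {s : Finset α} {g : Perm α} (h : ∀ x, x ∉ s → g x = x) : g ∈ keep s := by
  intro x
  by_cases hx : x ∈ s
  · refine iff_of_true ?_ hx
    by_contra hc
    rw [g.injective (h _ hc)] at hc
    exact hc hx
  · rw [h x hx]

theorem tri_apply_left {a b c : α} (hab : a ≠ b) (hac : a ≠ c) : tri a b c a = b := by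
  rw [tri, Perm.mul_apply, swap_apply_of_ne_of_ne hab hac, swap_apply_left]

theorem mem_image_perm {s : Finset α} {g : Perm α} {y : α} : y ∈ s.image g ↔ g⁻¹ y ∈ s := by
  conv_lhs => rw [← g.apply_symm_apply y]
  rw [g.injective.mem_finset_image]
  rfl

theorem mem_keep_image {s : Finset α} {g u : Perm α} : g⁻¹ * u * g ∈ keep s ↔ u ∈ keep (s.image g) := by
  constructor
  · intro h y
    have h' := h (g⁻¹ y)
    simp only [Perm.mul_apply, Perm.inv_def, Equiv.apply_symm_apply] at h'
    rw [mem_image_perm, mem_image_perm]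
    exact h'
  · intro h x
    have h' := h (g x)
    rw [mem_image_perm, mem_image_perm] at h'
    simp only [Perm.inv_def, Equiv.symm_apply_apply] at h'
    exact h'

theorem conj_fix {g u : Perm α} {a : α} (h : u (g a) = g a) : (g⁻¹ * u * g) a = a := by
  simp [h]

theorem conj_mem_alt {g u : Perm α} (hu : u ∈ alternatingGroup α) : g⁻¹ * u * g ∈ alternatingGroup α := by
  simpa using (alternatingGroup.normal).conj_mem u hu g⁻¹

theorem mem_of_conj {g u : Perm α} (hg : g ∈ M) (h : g⁻¹ * u * g ∈ M) : u ∈ M := by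
  have := mul_mem (mul_mem hg h) (inv_mem hg)
  simpa [mul_assoc] using this

theorem exists_third {s : Finset α} (hs : 3 ≤ s.card) (z r : α) : ∃ w ∈ s, w ≠ z ∧ w ≠ r := by
  obtain ⟨w, hw⟩ : ((s.erase z).erase r).Nonempty := Finset.card_pos.mp (by
    have h1 := Finset.pred_card_le_card_erase (a := z) (s := s)
    have h2 := Finset.pred_card_le_card_erase (a := r) (s := s.erase z)
    omega)
  simp only [Finset.mem_erase] at hw
  exact ⟨w, hw.2.2, hw.2.1, hw.1⟩

/-- A subset met by another one that all its three-cycles preserve is contained in it. -/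
theorem subset_of_tri {T S : Finset α} (hT : 3 ≤ T.card)
    (h : ∀ z r w : α, z ∈ T → r ∈ T → w ∈ T → z ≠ r → r ≠ w → z ≠ w → tri z r w ∈ keep S)
    {z : α} (hzT : z ∈ T) (hzS : z ∈ S) : T ⊆ S := by
  intro r hr
  rcases eq_or_ne z r with rfl | hzr
  · exact hzS
  obtain ⟨w, hw, hwz, hwr⟩ := exists_third hT z r
  have := (h z r w hzT hr hw hzr hwr.symm hwz.symm z).mpr hzS
  rwa [tri_apply_left hzr hwz.symm] at this

theorem altTrans (h3 : 3 ≤ Fintype.card α) : Trans (alternatingGroup α) := by
  intro x y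
  rcases eq_or_ne x y with rfl | hxy
  · exact ⟨1, one_mem _, rfl⟩
  obtain ⟨z, -, hzx, hzy⟩ := exists_third (s := (Finset.univ : Finset α)) (by rwa [Finset.card_univ]) x y
  exact ⟨tri x y z, tri_mem hxy hzy.symm, tri_apply_left hxy hzx.symm⟩

theorem AltHall.mem_of_isPi (hM : AltHall π M) {K : Subgroup (Perm α)} (hMK : M ≤ K)
    (hK : IsPi π (alternatingGroup α ⊓ K)) {g : Perm α} (hg : g ∈ alternatingGroup α) (hgK : g ∈ K) : g ∈ M := by
  have := eq_of_relIndex (le_inf hM.le hMK) inf_le_left hK hM.full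
  exact this ▸ ⟨hg, hgK⟩

theorem eight_step (hcard : Fintype.card α = 8) {a : α} {s : Finset α} (has : a ∉ s) (hs : s.card = 3)
    (H1 : ∀ g ∈ M, g a = a → g ∈ keep s) (H2 : ∀ g ∈ alternatingGroup α, g a = a → g ∈ keep s → g ∈ M)
    {g : Perm α} (hg : g ∈ M) (hga : g a ∈ s) : (insert a s).image g = insert a s := by
  have hX : (insert a s).card = 4 := by rw [Finset.card_insert_of_notMem has, hs]
  have hb : g a ∉ s.image g := fun h => has (g.injective.mem_finset_image.mp h)
  have hS : (s.image g).card = 3 := by rw [Finset.card_image_of_injective _ g.injective, hs]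
  have hsub : s.image g ⊆ (insert a s).erase (g a) := by
    intro z hz
    refine Finset.mem_erase.mpr ⟨fun e => hb (e ▸ hz), ?_⟩
    by_contra hzX
    have h4 : (insert a s)ᶜ ⊆ s.image g := by
      refine subset_of_tri (by rw [Finset.card_compl, hX, hcard]; norm_num) ?_ (Finset.mem_compl.mpr hzX) hz
      intro p q w hp hq hw hpq hqw hpw
      rw [Finset.mem_compl] at hp hq hw
      have hfix : ∀ x ∈ insert a s, tri p q w x = x := fun x hx =>
        tri_apply_of_ne (fun e => hp (e ▸ hx)) (fun e => hq (e ▸ hx)) (fun e => hw (e ▸ hx))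
      have hu := H2 _ (tri_mem hpq hqw) (hfix a (Finset.mem_insert_self a s))
        (keep_of_fix_mem fun x hx => hfix x (Finset.mem_insert_of_mem hx))
      exact mem_keep_image.mp (H1 _ (mul_mem (mul_mem (inv_mem hg) hu) hg)
        (conj_fix (hfix _ (Finset.mem_insert_of_mem hga))))
    have := Finset.card_le_card h4
    rw [Finset.card_compl, hX, hS, hcard] at this
    omega
  have heq : s.image g = (insert a s).erase (g a) := Finset.eq_of_subset_of_card_le hsub (by
    rw [Finset.card_erase_of_mem (Finset.mem_insert_of_mem hga), hX, hS])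
  rw [Finset.image_insert, heq, Finset.insert_erase (Finset.mem_insert_of_mem hga)]

theorem eight_case (hcard : Fintype.card α = 8) (htr : Trans M) {a : α} {s : Finset α} (has : a ∉ s)
    (hs : s.card = 3) (H1 : ∀ g ∈ M, g a = a → g ∈ keep s)
    (H2 : ∀ g ∈ alternatingGroup α, g a = a → g ∈ keep s → g ∈ M) : M ≤ keepPair (insert a s) := by
  have hX : (insert a s).card = 4 := by rw [Finset.card_insert_of_notMem has, hs]
  intro g hg
  by_cases ha : g a = a
  · refine Or.inl fun x => ?_
    rcases eq_or_ne x a with rfl | hx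
    · simp [ha]
    · have : g x ≠ a := fun e => hx (g.injective (e.trans ha.symm))
      simp only [Finset.mem_insert, hx, this, false_or]
      exact H1 g hg ha x
  by_cases hga : g a ∈ s
  · exact Or.inl (mem_keep_iff_image.mpr (eight_step hcard has hs H1 H2 hg hga))
  have hS : (s.image g).card = 3 := by rw [Finset.card_image_of_injective _ g.injective, hs]
  have hb : g a ∉ s.image g := fun h => has (g.injective.mem_finset_image.mp h)
  have hbR : g a ∈ (insert a s)ᶜ := by
    rw [Finset.mem_compl, Finset.mem_insert]; rintro (h | h); exacts [ha h, hga h]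
  have hR : (((insert a s)ᶜ).erase (g a)).card = 3 := by
    rw [Finset.card_erase_of_mem hbR, Finset.card_compl, hX, hcard]
  have key : ∀ u ∈ alternatingGroup α, u a = a → u ∈ keep s → u (g a) = g a → u ∈ keep (s.image g) :=
    fun u hu hua hus hub => mem_keep_image.mp (H1 _ (mul_mem (mul_mem (inv_mem hg) (H2 u hu hua hus)) hg) (conj_fix hub))
  by_cases h1 : ∃ z ∈ s, z ∈ s.image g
  · exfalso
    obtain ⟨z, hz, hz'⟩ := h1
    have hSs : s.image g = s := (Finset.eq_of_subset_of_card_le (subset_of_tri hs.ge (fun p q w hp hq hw hpq hqw hpw =>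
      key _ (tri_mem hpq hqw) (tri_apply_of_ne (fun e => has (e ▸ hp)) (fun e => has (e ▸ hq)) (fun e => has (e ▸ hw)))
        (keep_of_fix_not_mem fun x hx => tri_apply_of_ne (fun e => hx (e ▸ hp)) (fun e => hx (e ▸ hq)) (fun e => hx (e ▸ hw)))
        (tri_apply_of_ne (fun e => hga (e ▸ hp)) (fun e => hga (e ▸ hq)) (fun e => hga (e ▸ hw)))) hz hz')
      (by rw [hS, hs])).symm
    obtain ⟨u, hu⟩ : s.Nonempty := Finset.card_pos.mp (by omega)
    obtain ⟨h, hh, hha⟩ := htr a u
    have e1 := eight_step hcard has hs H1 H2 hh (hha ▸ hu)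
    have hgX : (insert a s).image g = insert (g a) s := by rw [Finset.image_insert, hSs]
    have e2 := eight_step hcard (a := g a) (s := s) (M := M) hga hs
      (fun v hv hvb => by
        have := mem_keep_image.mp (H1 _ (mul_mem (mul_mem (inv_mem hg) hv) hg) (conj_fix hvb))
        rwa [hSs] at this)
      (fun v hv hvb hvs => mem_of_conj hg (H2 _ (conj_mem_alt hv) (conj_fix hvb) (mem_keep_image.mpr (by rwa [hSs]))))
      (g := h * g⁻¹) (mul_mem hh (inv_mem hg)) (by
        show h (g⁻¹ (g a)) ∈ s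
        simp only [Perm.inv_def, Equiv.symm_apply_apply]
        rw [hha]; exact hu)
    rw [← hgX, Finset.image_image] at e2
    have e3 : (insert a s).image ((h * g⁻¹ : Perm α) ∘ g) = (insert a s).image h := by
      congr 1; funext x; simp
    rw [e3, e1, hgX] at e2
    have := e2.symm ▸ Finset.mem_insert_self (g a) s
    exact (Finset.mem_compl.mp hbR) this
  push Not at h1
  by_cases h2 : ∃ z ∈ ((insert a s)ᶜ).erase (g a), z ∈ s.image g
  · obtain ⟨z, hz, hz'⟩ := h2
    have hSR : ((insert a s)ᶜ).erase (g a) = s.image g := Finset.eq_of_subset_of_card_le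
      (subset_of_tri hR.ge (fun p q w hp hq hw hpq hqw hpw => by
        have hfix : ∀ x, x ∉ ((insert a s)ᶜ).erase (g a) → tri p q w x = x := fun x hx =>
          tri_apply_of_ne (fun e => hx (e ▸ hp)) (fun e => hx (e ▸ hq)) (fun e => hx (e ▸ hw))
        exact key _ (tri_mem hpq hqw) (hfix a (by simp)) (keep_of_fix_mem fun x hx => hfix x (by simp [hx]))
          (hfix _ (by simp))) hz hz') (by rw [hS, hR])
    have himg : (insert a s).image g = (insert a s)ᶜ := by
      rw [Finset.image_insert, ← hSR, Finset.insert_erase hbR]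
    refine Or.inr fun x => ?_
    rw [← g.injective.mem_finset_image (s := insert a s) (a := x), himg, Finset.mem_compl, not_not]
  push Not at h2
  exfalso
  have : s.image g ⊆ {a} := fun z hz => by
    rw [Finset.mem_singleton]
    by_contra hza
    exact h2 z (Finset.mem_erase.mpr ⟨fun e => hb (e ▸ hz), by
      rw [Finset.mem_compl, Finset.mem_insert]; rintro (h | h); exacts [hza h, h1 z h hz]⟩) hz
  have := Finset.card_le_card this
  rw [hS, Finset.card_singleton] at this
  omega

theorem nine_case (hcard : Fintype.card α = 9) (htr : Trans M) {a : α} {s : Finset α} (has : a ∉ s)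
    (hs : s.card = 4) (H1 : ∀ g ∈ M, g a = a → (∃ x, x ≠ a ∧ g x = x) → g ∈ keep s)
    (H2 : ∀ g ∈ alternatingGroup α, g a = a → g ∈ keep s → g ∈ M) : 5 ∣ Nat.card M := by
  have hX : (insert a s).card = 5 := by rw [Finset.card_insert_of_notMem has, hs]
  obtain ⟨b, hb⟩ : s.Nonempty := Finset.card_pos.mp (by omega)
  have hba : b ≠ a := fun e => has (e ▸ hb)
  obtain ⟨g, hg, rfl⟩ := htr a b
  have hS : (s.image g).card = 4 := by rw [Finset.card_image_of_injective _ g.injective, hs]
  have hbS : g a ∉ s.image g := fun h => has (g.injective.mem_finset_image.mp h)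
  obtain ⟨x, y, z, hxy, hxz, hyz, hxyz⟩ := Finset.card_eq_three.mp
    (show (s.erase (g a)).card = 3 by rw [Finset.card_erase_of_mem hb, hs])
  have hx : x ∈ s.erase (g a) := by simp [hxyz]
  have hy : y ∈ s.erase (g a) := by simp [hxyz]
  have hz : z ∈ s.erase (g a) := by simp [hxyz]
  rw [Finset.mem_erase] at hx hy hz
  have hax : a ≠ x := fun e => has (e ▸ hx.2)
  have hay : a ≠ y := fun e => has (e ▸ hy.2)
  have haz : a ≠ z := fun e => has (e ▸ hz.2)
  -- the three-cycle through `a` keeps the translate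
  have hkeep : tri a x y ∈ keep (s.image g) := by
    by_cases hex : ∃ w ∈ (insert a s)ᶜ, w ∈ s.image g
    · obtain ⟨w, hw, hw'⟩ := hex
      have hT : (insert a s)ᶜ = s.image g := Finset.eq_of_subset_of_card_le
        (subset_of_tri (by rw [Finset.card_compl, hX, hcard]; norm_num) (fun p q r hp hq hr hpq hqr hpr => by
          have hfix : ∀ v ∈ insert a s, tri p q r v = v := fun v hv =>
            tri_apply_of_ne (fun e => Finset.mem_compl.mp hp (e ▸ hv)) (fun e => Finset.mem_compl.mp hq (e ▸ hv))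
              (fun e => Finset.mem_compl.mp hr (e ▸ hv))
          have hu := H2 _ (tri_mem hpq hqr) (hfix a (Finset.mem_insert_self a s))
            (keep_of_fix_mem fun v hv => hfix v (Finset.mem_insert_of_mem hv))
          refine mem_keep_image.mp (H1 _ (mul_mem (mul_mem (inv_mem hg) hu) hg)
            (conj_fix (hfix _ (Finset.mem_insert_of_mem hb))) ⟨g⁻¹ a, ?_, ?_⟩)
          · intro e
            have e' := congrArg g e
            simp only [Perm.inv_def, Equiv.apply_symm_apply] at e'
            exact hba e'.symm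
          · simp [hfix a (Finset.mem_insert_self a s)]) hw hw')
        (by rw [Finset.card_compl, hX, hcard, hS])
      rw [← hT]
      refine keep_of_fix_mem fun v hv => ?_
      rw [Finset.mem_compl, Finset.mem_insert, not_or] at hv
      exact tri_apply_of_ne hv.1 (fun e => hv.2 (e ▸ hx.2)) (fun e => hv.2 (e ▸ hy.2))
    · push Not at hex
      have hS' : s.image g = (insert a s).erase (g a) := Finset.eq_of_subset_of_card_le (fun v hv =>
          Finset.mem_erase.mpr ⟨fun e => hbS (e ▸ hv), by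
            by_contra hc; exact hex v (Finset.mem_compl.mpr hc) hv⟩)
        (by rw [Finset.card_erase_of_mem (Finset.mem_insert_of_mem hb), hX, hS])
      rw [hS']
      refine keep_of_fix_not_mem fun v hv => tri_apply_of_ne ?_ ?_ ?_ <;> rintro rfl <;> apply hv
      · simp [hba.symm]
      · simp [hx.1, hx.2]
      · simp [hy.1, hy.2]
  have h1 : tri a x y ∈ M := mem_of_conj hg (H2 _ (conj_mem_alt (tri_mem hax hxy))
    (conj_fix (tri_apply_of_ne hba hx.1.symm hy.1.symm)) (mem_keep_image.mpr hkeep))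
  have h2 : tri y z (g a) ∈ M := H2 _ (tri_mem hyz hz.1) (tri_apply_of_ne hay haz hba.symm)
    (keep_of_fix_not_mem fun v hv => tri_apply_of_ne (fun e => hv (e ▸ hy.2)) (fun e => hv (e ▸ hz.2)) (fun e => hv (e ▸ hb)))
  set l := [a, x, y, z, g a] with hl
  have hnd : l.Nodup := by
    simp [hl, hax, hay, haz, hba.symm, hxy, hxz, hx.1, hyz, hy.1, hz.1]
  have hform : l.formPerm = tri a x y * tri y z (g a) := by
    simp [hl, tri, mul_assoc]
  have hord : orderOf l.formPerm = 5 := by
    rw [(List.isCycle_formPerm hnd (by simp [hl])).orderOf, List.support_formPerm_of_nodup _ hnd (by simp [hl]),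
      List.toFinset_card_of_nodup hnd]
    simp [hl]
  rw [← hord]
  exact (orderOf_dvd_of_pow_eq_one (x := l.formPerm) (n := Nat.card M) (by
    have : ((⟨_, mul_mem h1 h2⟩ : M) ^ Nat.card M) = 1 := pow_card_eq_one'
    have := congrArg Subtype.val this
    rw [hform]
    exact this))

end

/-- The classification. -/
theorem classify : ∀ (n : ℕ) {α : Type u} [Fintype α] [DecidableEq α] {M : Subgroup (Perm α)},
    Fintype.card α = n → AltHall π M → Mixed π n → Exc π M := by
  intro n
  induction n using Nat.strong_induction_on with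
  | _ n ih =>
  intro α _ _ M hcard hM hmix
  have h5 := hmix.five_le
  by_cases htr : Trans M
  swap
  · -- intransitive
    classical
    unfold Trans at htr
    push Not at htr
    obtain ⟨x, y, hxy⟩ := htr
    set O : Finset α := Finset.univ.filter fun z => ∃ g ∈ M, g x = z with hO
    have hxO : x ∈ O := Finset.mem_filter.mpr ⟨Finset.mem_univ _, 1, one_mem M, rfl⟩
    have hyO : y ∉ O := fun h => by
      obtain ⟨g, hg, e⟩ := (Finset.mem_filter.mp h).2
      exact hxy g hg e
    have hkO : M ≤ keep O := fun m hm z => by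
      simp only [hO, Finset.mem_filter, Finset.mem_univ, true_and]
      constructor
      · rintro ⟨g, hg, e⟩
        exact ⟨m⁻¹ * g, mul_mem (inv_mem hm) hg, by simp [e]⟩
      · rintro ⟨g, hg, e⟩
        exact ⟨m * g, mul_mem hm hg, by simp [e]⟩
    have hkc : ∀ t : Finset α, M ≤ keep t → M ≤ keep tᶜ := fun t ht m hm z => by
      simpa using not_congr (ht hm z)
    obtain ⟨s, hks, hA, hAB⟩ : ∃ s : Finset α, M ≤ keep s ∧ s.card < n ∧ n ≤ 2 * s.card := by
      have h1 : 0 < O.card := Finset.card_pos.mpr ⟨x, hxO⟩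
      have h2 : O.card < n := hcard ▸ Finset.card_lt_univ_of_notMem hyO
      rcases le_or_gt n (2 * O.card) with h | h
      · exact ⟨O, hkO, h2, h⟩
      · refine ⟨Oᶜ, hkc O hkO, ?_, ?_⟩ <;> rw [Finset.card_compl, hcard] <;> omega
    obtain ⟨B, hB⟩ : ∃ B, B = s.card := ⟨_, rfl⟩
    obtain ⟨A, hn⟩ : ∃ A, n = A + B := ⟨n - B, by omega⟩
    subst hn
    have hC : ∀ p : ℕ, p.Prime → p ∈ π → ¬ p ∣ (A + B).choose A := fun p hp hpπ hd => by
      refine hM.full p hp hpπ ?_
      rw [Nat.choose_symm_add, hB] at hd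
      have e := relIndex_keep s (by omega)
      rw [hcard, hB, ← Subgroup.inf_relIndex_right] at e
      rw [← Subgroup.relIndex_mul_relIndex M (keep s ⊓ alternatingGroup α) _ (le_inf hks hM.le) inf_le_right, e]
      exact hd.mul_left _
    have hbig : ∀ p : ℕ, p.Prime → p ≤ A + B → p ∈ π → p ≤ B := fun p hp hpn hpπ => by
      by_contra hc
      exact hC p hp hpπ (hp.dvd_choose_add (by omega) (by omega) hpn)
    have hsc : sᶜ.card = A := by rw [Finset.card_compl, hcard]; omega
    by_cases hall : ∀ p : ℕ, p.Prime → p ≤ B → p ∈ π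
    · obtain ⟨hp, h | ⟨hA3, hB4⟩⟩ := choose_all (A := A) (B := B) (by omega) (by omega) (by omega)
        fun p hp hpB => hC p hp (hall p hp hpB)
      · left
        obtain ⟨a, ha⟩ := Finset.card_eq_one.mp (hsc.trans h)
        rw [hcard]
        refine ⟨hp, fun p hp' hpn => ⟨fun hpπ => ?_, fun hlt => hall p hp' (by omega)⟩, a, ha ▸ hkc s hks⟩
        have := hbig p hp' hpn hpπ
        omega
      · right; left
        rw [hcard]
        subst hA3 hB4
        refine ⟨rfl, ⟨hall 2 Nat.prime_two (by omega), hall 3 Nat.prime_three (by omega), fun p hp' hpn h5p hpπ => ?_⟩,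
          sᶜ, hsc, hkc s hks⟩
        have := hbig p hp' hpn hpπ
        omega
    · exfalso
      push Not at hall
      obtain ⟨t, ht, htB, htπ⟩ := hall
      have hmB : Mixed π B := by
        obtain ⟨⟨r, q, hr, hq, hrq, hrπ, hqπ, hrn, hqn⟩, -⟩ := hmix
        exact ⟨⟨r, q, hr, hq, hrq, hrπ, hqπ, hbig r hr hrn hrπ, hbig q hq hqn hqπ⟩, t, ht, htB, htπ⟩
      have hcB : Fintype.card {x // x ∈ s} = B := by rw [Fintype.card_coe, hB]
      have hB5 := hmB.five_le
      rcases ih B (by omega) hcB (hM.restrict_invariant s hks) hmB with ⟨hp, hbel, -⟩ | ⟨h7, h23, -⟩ | ⟨h8, h23, -⟩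
      · rw [hcB] at hp hbel
        exact choose_exceptional (A := A) (by omega) (by omega) hp hB5
          fun p hp' hpB => hC p hp' ((hbel p hp' hpB.le).mpr hpB)
      · rw [hcB] at h7
        rcases choose_small (A := A) (B := B) (by omega) (by omega) (Or.inl h7) with h | h
        exacts [hC 2 Nat.prime_two h23.1 h, hC 3 Nat.prime_three h23.2.1 h]
      · rw [hcB] at h8
        rcases choose_small (A := A) (B := B) (by omega) (by omega) (Or.inr h8) with h | h
        exacts [hC 2 Nat.prime_two h23.1 h, hC 3 Nat.prime_three h23.2.1 h]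
  -- transitive
  obtain ⟨a⟩ : Nonempty α := Fintype.card_pos_iff.mp (by omega)
  have hdiv : ∀ p : ℕ, p.Prime → p ∣ n → p ∈ π := fun p hp hpn =>
    hM.pi p hp (hpn.trans (hcard ▸ card_dvd_of_trans htr a))
  by_cases hm : Mixed π (n - 1)
  swap
  · exfalso
    obtain ⟨⟨r, q, hr, hq, hrq, hrπ, hqπ, hrn, hqn⟩, t, ht, htn, htπ⟩ := hmix
    have htlt : t < n := lt_of_le_of_ne htn fun e => htπ (hdiv t ht (e ▸ dvd_rfl))
    obtain ⟨r₀, hr₀, hr₀π, hr₀n⟩ : ∃ r₀ : ℕ, r₀.Prime ∧ r₀ ∈ π ∧ r₀ < n := by
      rcases eq_or_lt_of_le hrn with h | h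
      · exact ⟨q, hq, hqπ, lt_of_le_of_ne hqn fun e => hrq (h.trans e.symm)⟩
      · exact ⟨r, hr, hrπ, h⟩
    have huniq : ∀ p : ℕ, p.Prime → p ∈ π → p < n → p = r₀ := fun p hp hpπ hpn => by
      by_contra hne
      exact hm ⟨⟨p, r₀, hp, hr₀, hne, hpπ, hr₀π, by omega, by omega⟩, t, ht, by omega, htπ⟩
    have hnp : n.Prime := by
      rcases eq_or_lt_of_le hrn with h | h
      · exact h ▸ hr
      rcases eq_or_lt_of_le hqn with h' | h'
      · exact h' ▸ hq
      exact absurd ((huniq r hr hrπ h).trans (huniq q hq hqπ h').symm) hrq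
    exact no_prime_degree hM htr hnp hcard h5 hr₀ hr₀π hr₀n huniq a
  set T : Finset α := {a}ᶜ with hT
  have hmemT : ∀ x, x ∈ T ↔ x ≠ a := fun x => by simp [hT]
  have hcT : Fintype.card {x // x ∈ T} = n - 1 := by
    rw [Fintype.card_coe, hT, Finset.card_compl, Finset.card_singleton, hcard]
  have hon : altOn T = alternatingGroup α ⊓ keep {a} := by
    ext g
    rw [mem_altOn, Subgroup.mem_inf, mem_keep_singleton]
    refine and_congr_right fun _ => ⟨fun h => h a (by simp [hmemT]), fun h x hx => ?_⟩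
    rw [hmemT, not_not] at hx
    rw [hx, h]
  have hfull : ∀ p : ℕ, p.Prime → p ∈ π → ¬ p ∣ M.relIndex (altOn T) := fun p hp hpπ hd => by
    refine hM.full p hp hpπ ?_
    have e1 := Subgroup.relIndex_mul_relIndex (M ⊓ keep {a}) M (alternatingGroup α) inf_le_left hM.le
    have e2 := Subgroup.relIndex_mul_relIndex (M ⊓ keep {a}) (alternatingGroup α ⊓ keep {a}) (alternatingGroup α)
      (inf_le_inf_right _ hM.le) inf_le_left
    rw [Subgroup.inf_relIndex_left, relIndex_point htr a] at e1
    rw [show M ⊓ keep ({a} : Finset α) = M ⊓ (alternatingGroup α ⊓ keep {a}) by rw [← inf_assoc, inf_eq_left.mpr hM.le],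
      Subgroup.inf_relIndex_right, Subgroup.inf_relIndex_left, relIndex_point (altTrans (by omega)) a, ← hon] at e2
    rw [hon, show M ⊓ (alternatingGroup α ⊓ keep {a}) = M ⊓ keep ({a} : Finset α) by rw [← inf_assoc, inf_eq_left.mpr hM.le]] at e2
    rw [← e2] at e1
    rw [hon] at hd
    rwa [← Nat.eq_of_mul_eq_mul_right (Fintype.card_pos_iff.mpr ⟨a⟩) ((mul_comm _ _).trans e1)] at hd
  have hM' := hM.restrict T hfull
  set M' := M.comap (Perm.ofSubtype : Perm {x // x ∈ T} →* Perm α) with hM'def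
  have hT' : ∀ g : Perm α, g a = a → ∀ x, g x ∈ T ↔ x ∈ T := fun g hg x => by
    rw [hmemT, hmemT]
    exact not_congr ⟨fun h => g.injective (h.trans hg.symm), fun h => h ▸ hg⟩
  have hback : ∀ (g : Perm α) (hg : g a = a), Perm.ofSubtype (g.subtypePerm (hT' g hg)) = g := fun g hg =>
    Perm.ofSubtype_subtypePerm _ fun x hx => (hmemT x).mpr fun e => hx (e ▸ hg)
  have down : ∀ g ∈ M, ∀ hg : g a = a, g.subtypePerm (hT' g hg) ∈ M' := fun g hgM hg => by
    show Perm.ofSubtype _ ∈ M
    rw [hback g hg]; exact hgM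
  have lift : ∀ K : Subgroup (Perm {x // x ∈ T}), M' ≤ K → IsPi π (alternatingGroup {x // x ∈ T} ⊓ K) →
      ∀ g ∈ alternatingGroup α, ∀ hg : g a = a, g.subtypePerm (hT' g hg) ∈ K → g ∈ M := fun K hK hKπ g hgA hg hgK => by
    have := hM'.mem_of_isPi hK hKπ (g := g.subtypePerm (hT' g hg)) (by
      show Perm.sign _ = 1
      rw [← Perm.sign_ofSubtype, hback g hg]; exact hgA) hgK
    rw [hM'def, Subgroup.mem_comap, hback g hg] at this
    exact this
  rcases ih (n - 1) (by omega) hcT hM' hm with ⟨hp, hbel, b', hb'⟩ | ⟨h7, h23, s', hs', hb'⟩ | ⟨h8, h23, s', hs', hb'⟩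
  · -- a second fixed point
    exfalso
    rw [hcT] at hp hbel
    have hb : b'.1 ≠ a := (hmemT _).mp b'.2
    have H1 : ∀ g ∈ M, g a = a → g b'.1 = b'.1 := fun g hgM hg =>
      congrArg Subtype.val (mem_keep_singleton.mp (hb' (down g hgM hg)))
    have H2 : ∀ g ∈ alternatingGroup α, g a = a → g b'.1 = b'.1 → g ∈ M := fun g hgA hg hgb => by
      refine lift (keep {b'}) hb' (isPi_point b' fun r hr hlt => (hbel r hr ?_).mpr (hcT ▸ hlt)) g hgA hg
        (mem_keep_singleton.mpr (Subtype.ext hgb))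
      omega
    obtain ⟨b, rfl⟩ : ∃ b, b = b'.1 := ⟨_, rfl⟩
    have h6 : 6 ≤ n := by
      have := hm.five_le
      omega
    obtain ⟨c, -, hca, hcb⟩ := exists_third (s := (Finset.univ : Finset α)) (by rw [Finset.card_univ]; omega) a b'.1
    obtain ⟨h, hh, hha⟩ := htr a c
    have H2' : ∀ g ∈ alternatingGroup α, g c = c → g (h b'.1) = h b'.1 → g ∈ M := fun g hgA hgc hgb =>
      mem_of_conj hh (H2 _ (conj_mem_alt hgA) (conj_fix (hha ▸ hgc)) (conj_fix hgb))
    obtain ⟨p, hp1, q, hq1, hpq⟩ : ∃ p ∈ ({a, b'.1, c, h b'.1} : Finset α)ᶜ, ∃ q ∈ ({a, b'.1, c, h b'.1} : Finset α)ᶜ, p ≠ q := by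
      refine Finset.one_lt_card.mp ?_
      rw [Finset.card_compl]
      have : ({a, b'.1, c, h b'.1} : Finset α).card ≤ 4 := Finset.card_le_four
      omega
    simp only [Finset.mem_compl, Finset.mem_insert, Finset.mem_singleton, not_or] at hp1 hq1
    obtain ⟨hpa, hpb, hpc, hpc'⟩ := hp1
    obtain ⟨hqa, hqb, hqc, hqc'⟩ := hq1
    by_cases hcb' : h b'.1 = b'.1
    · -- the two stabilisers agree
      have hle : M ⊓ keep {a} ≤ M ⊓ keep ({b'.1} : Finset α) := fun g hg =>
        ⟨hg.1, mem_keep_singleton.mpr (H1 g hg.1 (mem_keep_singleton.mp hg.2))⟩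
      have e := Subgroup.relIndex_mul_relIndex _ _ M hle inf_le_left
      rw [Subgroup.inf_relIndex_left, Subgroup.inf_relIndex_left, relIndex_point htr, relIndex_point htr] at e
      have hge := Subgroup.relIndex_eq_one.mp ((Nat.mul_eq_right (by omega)).mp e)
      have hu := H2' (tri a p q) (tri_mem (Ne.symm hpa) hpq) (tri_apply_of_ne hca (Ne.symm hpc) (Ne.symm hqc))
        (by rw [hcb']; exact tri_apply_of_ne hb (Ne.symm hpb) (Ne.symm hqb))
      have := mem_keep_singleton.mp (hge ⟨hu, mem_keep_singleton.mpr (tri_apply_of_ne hb (Ne.symm hpb) (Ne.symm hqb))⟩).2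
      rw [tri_apply_left (Ne.symm hpa) (Ne.symm hqa)] at this
      exact hpa this
    · have hu := H2' (tri b'.1 p q) (tri_mem (Ne.symm hpb) hpq) (tri_apply_of_ne hcb (Ne.symm hpc) (Ne.symm hqc))
        (tri_apply_of_ne hcb' (Ne.symm hpc') (Ne.symm hqc'))
      have := H1 _ hu (tri_apply_of_ne hb.symm (Ne.symm hpa) (Ne.symm hqa))
      rw [tri_apply_left (Ne.symm hpb) (Ne.symm hqb)] at this
      exact hpb this
  · -- degree eight
    rw [hcT] at h7 h23
    have hn8 : n = 8 := by omega
    set s := s'.map (Function.Embedding.subtype _) with hsdef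
    have hup : ∀ x (hx : x ∈ T), x ∈ s ↔ (⟨x, hx⟩ : {x // x ∈ T}) ∈ s' := fun x hx =>
      ⟨fun h => by
        obtain ⟨w, hw, e⟩ := Finset.mem_map.mp h
        exact (Subtype.ext e : w = ⟨x, hx⟩) ▸ hw, fun h => Finset.mem_map.mpr ⟨_, h, rfl⟩⟩
    have has : a ∉ s := fun h => by
      obtain ⟨w, -, e⟩ := Finset.mem_map.mp h
      exact (hmemT _).mp w.2 e
    have hsc : s.card = 3 := by rw [hsdef, Finset.card_map, hs']
    have hiff : ∀ (g : Perm α) (hg : g a = a), g.subtypePerm (hT' g hg) ∈ keep s' ↔ g ∈ keep s := fun g hg => by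
      constructor
      · intro h x
        by_cases hx : x ∈ T
        · rw [hup x hx, hup _ ((hT' g hg x).mpr hx), ← h ⟨x, hx⟩, Perm.subtypePerm_apply]
        · rw [hmemT, not_not] at hx
          rw [hx, hg]
      · intro h x
        rw [Perm.subtypePerm_apply, ← hup, ← hup]
        exact h x.1
    right; right
    rw [hcard]
    refine ⟨hn8, ⟨h23.1, h23.2.1, fun p hp hpn => h23.2.2 p hp ?_⟩, insert a s, by rw [Finset.card_insert_of_notMem has, hsc],
      eight_case (hcard.trans hn8) htr has hsc (fun g hgM hg => (hiff g hg).mp (hb' (down g hgM hg)))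
        fun g hgA hg hgs => lift (keep s') hb' ?_ g hgA hg ((hiff g hg).mpr hgs)⟩
    · rcases eq_or_lt_of_le hpn with rfl | h
      · subst hn8; norm_num at hp
      · omega
    · intro p hp hd
      exact isPi_keep s' (by omega) (by rw [Finset.card_compl, hcT]; omega) ⟨h23.1, h23.2.1⟩ p hp
        (hd.trans (Subgroup.card_dvd_of_le (inf_le_right.trans (keep_le_keepPair s'))))
  · -- degree nine
    exfalso
    rw [hcT] at h8 h23
    have hn9 : n = 9 := by omega
    set s := s'.map (Function.Embedding.subtype _) with hsdef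
    have hup : ∀ x (hx : x ∈ T), x ∈ s ↔ (⟨x, hx⟩ : {x // x ∈ T}) ∈ s' := fun x hx =>
      ⟨fun h => by
        obtain ⟨w, hw, e⟩ := Finset.mem_map.mp h
        exact (Subtype.ext e : w = ⟨x, hx⟩) ▸ hw, fun h => Finset.mem_map.mpr ⟨_, h, rfl⟩⟩
    have has : a ∉ s := fun h => by
      obtain ⟨w, -, e⟩ := Finset.mem_map.mp h
      exact (hmemT _).mp w.2 e
    have hsc : s.card = 4 := by rw [hsdef, Finset.card_map, hs']
    refine h23.2.2 5 Nat.prime_five (by omega) le_rfl (hM.pi 5 Nat.prime_five
      (nine_case (hcard.trans hn9) htr has hsc ?_ ?_))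
    · rintro g hgM hg ⟨x, hxa, hx⟩
      rcases hb' (down g hgM hg) with h | h
      · intro z
        by_cases hz : z ∈ T
        · rw [hup z hz, hup _ ((hT' g hg z).mpr hz), ← h ⟨z, hz⟩, Perm.subtypePerm_apply]
        · rw [hmemT, not_not] at hz
          rw [hz, hg]
      · have h' := h ⟨x, (hmemT x).mpr hxa⟩
        rw [Perm.subtypePerm_apply] at h'
        simp only [hx] at h'
        exact (iff_not_self h').elim
    · intro g hgA hg hgs
      refine lift (keepPair s') hb' ?_ g hgA hg (Or.inl fun x => ?_)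
      · intro p hp hd
        exact isPi_keep s' (by omega) (by rw [Finset.card_compl, hcT]; omega) ⟨h23.1, h23.2.1⟩ p hp
          (hd.trans (Subgroup.card_dvd_of_le inf_le_right))
      · rw [Perm.subtypePerm_apply, ← hup, ← hup]
        exact hgs x.1

end CfsgLib.SymHall
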